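import Groth.Agent.Lib.Trace19.Coherence

/-!
# Base change for the trace
-/

set_option autoImplicit false
set_option backward.isDefEq.respectTransparency false
set_option backward.isDefEq.respectTransparency.types false
set_option linter.style.haveILetI false
set_option linter.unusedSectionVars false

universe u

open CategoryTheory CategoryTheory.Limits AlgebraicGeometry Opposite
open GrothLib.EtSite GrothLib.Weight GrothLib.EtLimit

noncomputable section

namespace GrothLib.Trace19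

variable {X S X' S' : Scheme.{u}} (f : X ⟶ S) (g : S' ⟶ S) (f' : X' ⟶ S') (g' : X' ⟶ X)

/-- The base change map on a unit section. -/
theorem exists_bc0_unit (w : g' ≫ f = f' ≫ g) (H : EtCoh.Ab X) (U : S.Etale) :
    ∃ m : (EtCoh.bc f').obj ((EtCoh.bc g).obj U) ⟶ (EtCoh.bc g').obj ((EtCoh.bc f).obj U),
      m.left ≫ pullback.fst (pullback.snd U.hom f) g' ≫ pullback.fst U.hom f =
          pullback.fst (pullback.snd U.hom g) f' ≫ pullback.fst U.hom g ∧
        ∀ s : EtCoh.sect H ((EtCoh.bc f).obj U),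
          (EtCoh.baseChange0 f g f' g' w H).hom.app (op ((EtCoh.bc g).obj U))
              (((EtCoh.pullPushAdj g).unit.app ((EtCoh.push f).obj H)).hom.app (op U) s) =
            ((EtCoh.pull g').obj H).obj.map m.op (((EtCoh.pullPushAdj g').unit.app H).hom.app (op ((EtCoh.bc f).obj U)) s) := by
  obtain ⟨m₁, h₁, e₁⟩ := exists_qV_hom g' f (f' ≫ g) w U
  obtain ⟨m₂, h₂, e₂⟩ := exists_pushComp_inv f' g U
  refine ⟨m₂ ≫ m₁, ?_, fun s => ?_⟩
  · show (m₂.left ≫ m₁.left) ≫ pullback.fst (pullback.snd U.hom f) g' ≫ pullback.fst U.hom f = _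
    rw [Category.assoc, h₁, h₂]
  let φ := (EtCoh.push f).map ((EtCoh.pullPushAdj g').unit.app H) ≫ (EtCoh.pushComp f g').hom.app _ ≫
    (EtCoh.pushCongr w).hom.app _ ≫ (EtCoh.pushComp g f').inv.app _
  have h := congrArg (fun z : (EtCoh.push f).obj H ⟶ (EtCoh.push g).obj ((EtCoh.push f').obj ((EtCoh.pull g').obj H)) =>
      z.hom.app (op U) s) (((EtCoh.pullPushAdj g).homEquiv _ _).apply_symm_apply φ)
  simp only [Adjunction.homEquiv_unit] at h
  refine h.trans ?_
  show ((EtCoh.pushComp g f').inv.app ((EtCoh.pull g').obj H)).hom.app (op U)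
      (((qV g' f (f' ≫ g) w).hom.app ((EtCoh.pull g').obj H)).hom.app (op U)
        (((EtCoh.pullPushAdj g').unit.app H).hom.app (op ((EtCoh.bc f).obj U)) s)) = _
  rw [e₁, e₂, op_comp, Functor.map_comp, ConcreteCategory.comp_apply]

variable {f g f' g'}

theorem stalk_map_comp_apply {A B C : EtCoh.Ab X} (a : A ⟶ B) (b : B ⟶ C) {Ω : Type u} [Field Ω] [IsSepClosed Ω]
    (ξ : Spec (CommRingCat.of Ω) ⟶ X) (x : (EtCoh.stalk ξ).obj A) :
    (EtCoh.stalk ξ).map (a ≫ b) x = (EtCoh.stalk ξ).map b ((EtCoh.stalk ξ).map a x) := by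
  rw [Functor.map_comp]
  rfl

/-- The properties of the base change map and of the comparison isomorphism used below. -/
structure BCData (hw : g' ≫ f = f' ≫ g) (F : EtCoh.Ab S)
    (β : (EtCoh.pull g).obj ((EtCoh.push f).obj ((EtCoh.pull f).obj F)) ⟶
      (EtCoh.push f').obj ((EtCoh.pull g').obj ((EtCoh.pull f).obj F)))
    (α : (EtCoh.pull g').obj ((EtCoh.pull f).obj F) ⟶ (EtCoh.pull f').obj ((EtCoh.pull g).obj F)) : Prop where
  unit : ∀ U : S.Etale, ∃ m : (EtCoh.bc f').obj ((EtCoh.bc g).obj U) ⟶ (EtCoh.bc g').obj ((EtCoh.bc f).obj U),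
      m.left ≫ pullback.fst (pullback.snd U.hom f) g' ≫ pullback.fst U.hom f =
          pullback.fst (pullback.snd U.hom g) f' ≫ pullback.fst U.hom g ∧
        ∀ s : EtCoh.sect ((EtCoh.pull f).obj F) ((EtCoh.bc f).obj U),
          β.hom.app (op ((EtCoh.bc g).obj U))
              (((EtCoh.pullPushAdj g).unit.app ((EtCoh.push f).obj ((EtCoh.pull f).obj F))).hom.app (op U) s) =
            ((EtCoh.pull g').obj ((EtCoh.pull f).obj F)).obj.map m.op
              (((EtCoh.pullPushAdj g').unit.app ((EtCoh.pull f).obj F)).hom.app (op ((EtCoh.bc f).obj U)) s)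
  square : ∀ (Ω : Type u) [Field Ω] [IsAlgClosed Ω] (η' : Spec (CommRingCat.of Ω) ⟶ S')
    (ξ' : Spec (CommRingCat.of Ω) ⟶ X') (hξ : ξ' ≫ f' = η')
    (a : (EtCoh.stalk ξ').obj ((EtCoh.pull g').obj ((EtCoh.pull f).obj F))),
    down g η' rfl F (down f' ξ' hξ ((EtCoh.pull g).obj F) ((EtCoh.stalk ξ').map α a)) =
      down f (ξ' ≫ g') (by rw [Category.assoc, hw, ← Category.assoc, hξ]) F (down g' ξ' rfl ((EtCoh.pull f).obj F) a)

theorem comp_baseChange (hc : IsPullback g' f' f g) (F : EtCoh.Ab S) {β α} (D : BCData hc.w F β α) {Ω : Type u} [Field Ω] [IsAlgClosed Ω]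
    {η' : Spec (CommRingCat.of Ω) ⟶ S'} {U : S.Etale} (t : (Scheme.pointSmallEtale (η' ≫ g)).fiber.obj U)
    (s : EtCoh.sect ((EtCoh.pull f).obj F) ((EtCoh.bc f).obj U)) (ξ' : GeomPts f' η') :
    down g η' rfl F (comp f' ξ'.1 ξ'.2 ((EtCoh.pull g).obj F)
        (germ η' ((EtCoh.push f').obj ((EtCoh.pull f').obj ((EtCoh.pull g).obj F))) (liftPt g t η' rfl)
          (α.hom.app
            (op ((EtCoh.bc f').obj ((EtCoh.bc g).obj U)))
            (β.hom.app (op ((EtCoh.bc g).obj U))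
              (((EtCoh.pullPushAdj g).unit.app ((EtCoh.push f).obj ((EtCoh.pull f).obj F))).hom.app (op U) s))))) =
      comp f (ξ'.1 ≫ g') (by rw [Category.assoc, hc.w, ← Category.assoc, ξ'.2]) F
        (germ (η' ≫ g) ((EtCoh.push f).obj ((EtCoh.pull f).obj F)) t s) := by
  obtain ⟨m, hm, e⟩ := D.unit U
  have hξ : (ξ'.1 ≫ g') ≫ f = η' ≫ g := by rw [Category.assoc, hc.w, ← Category.assoc, ξ'.2]
  rw [comp_germ, comp_germ, e]
  refine (congrArg (fun z => down g η' rfl F (down f' ξ'.1 ξ'.2 ((EtCoh.pull g).obj F) z))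
    (stalk_map_germ ξ'.1 _ (liftPt f' (liftPt g t η' rfl) ξ'.1 ξ'.2) _).symm).trans ?_
  refine (D.square Ω η' ξ'.1 ξ'.2 _).trans ?_
  refine congrArg (down f (ξ'.1 ≫ g') hξ F) ?_
  refine Eq.trans (congrArg (down g' ξ'.1 rfl _) ?_) (down_unit g' ξ'.1 rfl _ (liftPt f t (ξ'.1 ≫ g') hξ) s)
  refine (germ_map ξ'.1 ((EtCoh.pull g').obj ((EtCoh.pull f).obj F)) m _ _).trans ?_
  refine congrArg (fun p => germ ξ'.1 ((EtCoh.pull g').obj ((EtCoh.pull f).obj F)) p _) ?_
  refine fiber_bc_ext g' _ _ ?_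
  refine Eq.trans ?_ (fst_liftPt g' (liftPt f t (ξ'.1 ≫ g') hξ) ξ'.1 rfl).symm
  apply pullback.hom_ext
  · refine Eq.trans ?_ (fst_liftPt f t (ξ'.1 ≫ g') hξ).symm
    show (((liftPt f' (liftPt g t η' rfl) ξ'.1 ξ'.2).left ≫ m.left) ≫ pullback.fst (pullback.snd U.hom f) g') ≫
      pullback.fst U.hom f = _
    rw [Category.assoc, Category.assoc, hm, ← Category.assoc]
    exact (congrArg (· ≫ pullback.fst U.hom g) (fst_liftPt f' (liftPt g t η' rfl) ξ'.1 ξ'.2)).trans
      (fst_liftPt g t η' rfl)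
  · refine Eq.trans ?_ (Over.w (liftPt f t (ξ'.1 ≫ g') hξ)).symm
    show (((liftPt f' (liftPt g t η' rfl) ξ'.1 ξ'.2).left ≫ m.left) ≫ pullback.fst (pullback.snd U.hom f) g') ≫
      pullback.snd U.hom f = ξ'.1 ≫ g'
    rw [Category.assoc, pullback.condition, ← Category.assoc]
    exact congrArg (· ≫ g') (Over.w ((Scheme.pointSmallEtale ξ'.1).fiber.map m (liftPt f' (liftPt g t η' rfl) ξ'.1 ξ'.2)))

set_option maxRecDepth 4000 in
/-- The stalkwise formula is compatible with base change. -/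
theorem IsTr.baseChange_aux [IsFinite f] [Flat f] (hc : IsPullback g' f' f g) {F : EtCoh.Ab S}
    {τ : (EtCoh.push f).obj ((EtCoh.pull f).obj F) ⟶ F}
    {τ' : (EtCoh.push f').obj ((EtCoh.pull f').obj ((EtCoh.pull g).obj F)) ⟶ (EtCoh.pull g).obj F}
    {β α} (D : BCData hc.w F β α) (h : IsTr f F τ) (h' : IsTr f' ((EtCoh.pull g).obj F) τ') :
    β ≫ (EtCoh.push f').map α ≫ τ' = (EtCoh.pull g).map τ := by
  classical
  haveI : IsFinite f' := MorphismProperty.of_isPullback hc ‹IsFinite f›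
  refine hom_ext_stalksAC fun Ω _ _ η' x => injective_down g η' rfl F ?_
  obtain ⟨U, t, s, rfl⟩ := exists_eq_unit g η' rfl ((EtCoh.push f).obj ((EtCoh.pull f).obj F)) x
  refine Eq.trans ?_ (down_naturality g η' rfl τ _).symm
  refine Eq.trans ?_ ((congrArg ((EtCoh.stalk (η' ≫ g)).map τ) (down_unit g η' rfl _ t s)).trans (h Ω (η' ≫ g) _)).symm
  refine Eq.trans (congrArg (down g η' rfl F) ((stalk_map_comp_apply _ _ η' _).trans
    ((stalk_map_comp_apply _ _ η' _).trans ((congrArg (fun z => (EtCoh.stalk η').map τ' ((EtCoh.stalk η').map _ z))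
      (stalk_map_germ η' _ (liftPt g t η' rfl) _)).trans
      ((congrArg ((EtCoh.stalk η').map τ') (stalk_map_germ η' _ (liftPt g t η' rfl) _)).trans (h' Ω η' _)))))) ?_
  haveI := finite_geomPts f' η' (f'.finite_preimage_singleton _)
  haveI := finite_geomPts f (η' ≫ g) (f.finite_preimage_singleton _)
  letI := Fintype.ofFinite (GeomPts f' η')
  letI := Fintype.ofFinite (GeomPts f (η' ≫ g))
  rw [trVal_apply, trVal_apply, map_sum]
  refine Finset.sum_bij (fun ξ' _ => geomPtsEquiv hc η' (η' ≫ g) rfl ξ') (fun _ _ => Finset.mem_univ _)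
    (fun a _ b _ e => (geomPtsEquiv hc η' (η' ≫ g) rfl).injective e)
    (fun ξ _ => ⟨(geomPtsEquiv hc η' (η' ≫ g) rfl).symm ξ, Finset.mem_univ _, Equiv.apply_symm_apply _ _⟩)
    (fun ξ' _ => ?_)
  rw [map_zsmul, mult_baseChange f hc ξ'.1]
  exact congrArg (fun z : (EtCoh.stalk (η' ≫ g)).obj F => mult f (pt (ξ'.1 ≫ g')) • z) (comp_baseChange hc F D t s ξ')

/-- The stalkwise formula is compatible with base change. -/
theorem IsTr.baseChange [IsFinite f] [Flat f] (hc : IsPullback g' f' f g) {F : EtCoh.Ab S}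
    {τ : (EtCoh.push f).obj ((EtCoh.pull f).obj F) ⟶ F}
    {τ' : (EtCoh.push f').obj ((EtCoh.pull f').obj ((EtCoh.pull g).obj F)) ⟶ (EtCoh.pull g).obj F}
    (h : IsTr f F τ) (h' : IsTr f' ((EtCoh.pull g).obj F) τ') :
    EtCoh.baseChange0 f g f' g' hc.w ((EtCoh.pull f).obj F) ≫
        (EtCoh.push f').map ((EtCore.pullComp g' f).inv.app F ≫ (EtCore.pullCongr hc.w).hom.app F ≫
          (EtCore.pullComp f' g).hom.app F) ≫ τ' =
      (EtCoh.pull g).map τ :=
  IsTr.baseChange_aux hc ⟨exists_bc0_unit f g f' g' hc.w _, fun Ω _ _ _ ξ' hξ a => down_square g' f f' g hc.w F ξ' hξ a⟩ h h'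

end GrothLib.Trace19
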