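import Groth.Agent.Lib.Trace19.Eval
import Groth.Agent.Lib.EtLimit.Coherence

/-!
# Composites of inverse images on stalks
-/

set_option autoImplicit false
set_option backward.isDefEq.respectTransparency false
set_option backward.isDefEq.respectTransparency.types false
set_option linter.style.haveILetI false
set_option linter.unusedSectionVars false

universe u

open CategoryTheory CategoryTheory.Limits AlgebraicGeometry Opposite
open GrothLib.EtSite GrothLib.Weight GrothLib.EtLimit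

noncomputable section

namespace GrothLib.Trace19

variable {X Y Z : Scheme.{u}}

theorem exists_qV_hom (f : X ⟶ Y) (g : Y ⟶ Z) (k : X ⟶ Z) (w : f ≫ g = k) (W : Z.Etale) :
    ∃ m : (EtCoh.bc k).obj W ⟶ (EtCoh.bc f).obj ((EtCoh.bc g).obj W),
      m.left ≫ pullback.fst (pullback.snd W.hom g) f ≫ pullback.fst W.hom g = pullback.fst W.hom k ∧
        ∀ (H : EtCoh.Ab X) (x : EtCoh.sect H ((EtCoh.bc f).obj ((EtCoh.bc g).obj W))),
          ((qV f g k w).hom.app H).hom.app (op W) x = H.obj.map m.op x := by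
  subst w
  refine ⟨(MorphismProperty.Over.pullbackComp (P := EtCoh.etaleMP) (Q := ⊤) f g).hom.app W, ?_, fun H x => ?_⟩
  · simp [MorphismProperty.Over.pullbackComp, EtCoh.bc]
    rfl
  · rw [qV, Iso.trans_hom, NatTrans.comp_app, pushCongr_refl_app, Category.comp_id]
    rfl

theorem exists_pushComp_inv (f : X ⟶ Y) (g : Y ⟶ Z) (W : Z.Etale) :
    ∃ m : (EtCoh.bc f).obj ((EtCoh.bc g).obj W) ⟶ (EtCoh.bc (f ≫ g)).obj W,
      m.left ≫ pullback.fst W.hom (f ≫ g) = pullback.fst (pullback.snd W.hom g) f ≫ pullback.fst W.hom g ∧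
        ∀ (H : EtCoh.Ab X) (x : EtCoh.sect H ((EtCoh.bc (f ≫ g)).obj W)),
          ((EtCoh.pushComp g f).inv.app H).hom.app (op W) x = H.obj.map m.op x := by
  refine ⟨(MorphismProperty.Over.pullbackComp (P := EtCoh.etaleMP) (Q := ⊤) f g).inv.app W, ?_, fun H x => ?_⟩
  · simp [MorphismProperty.Over.pullbackComp, EtCoh.bc]
  · rfl

theorem comp4_app_apply {A B C D E : EtCoh.Ab X} (a : A ⟶ B) (b : B ⟶ C) (c : C ⟶ D) (d : D ⟶ E) (W : X.Etale)
    (x : EtCoh.sect A W) : (a ≫ b ≫ c ≫ d).hom.app (op W) x =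
      d.hom.app (op W) (c.hom.app (op W) (b.hom.app (op W) (a.hom.app (op W) x))) :=
  rfl

theorem push_map_app (f : X ⟶ Y) {A B : EtCoh.Ab X} (p : A ⟶ B) (W : Y.Etale)
    (z : EtCoh.sect A ((EtCoh.bc f).obj W)) :
    ((EtCoh.push f).map p).hom.app (op W) z = p.hom.app (op ((EtCoh.bc f).obj W)) z :=
  rfl

theorem unit4 (f : X ⟶ Y) (g : Y ⟶ Z) (k : X ⟶ Z) {F : EtCoh.Ab Z} {G : EtCoh.Ab Y} {H K : EtCoh.Ab X}
    (ug : F ⟶ (EtCoh.push g).obj G) (uf : G ⟶ (EtCoh.push f).obj H)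
    (q : (EtCoh.push g).obj ((EtCoh.push f).obj H) ⟶ (EtCoh.push k).obj H) (p : H ⟶ K)
    (uk : F ⟶ (EtCoh.push k).obj K) (h : uk = ug ≫ (EtCoh.push g).map uf ≫ q ≫ (EtCoh.push k).map p)
    (W : Z.Etale) (y : EtCoh.sect F W) (z : EtCoh.sect H ((EtCoh.bc k).obj W))
    (hz : q.hom.app (op W) (uf.hom.app (op ((EtCoh.bc g).obj W)) (ug.hom.app (op W) y)) = z) :
    uk.hom.app (op W) y = p.hom.app (op ((EtCoh.bc k).obj W)) z := by
  subst h
  subst hz
  rfl

theorem unit_pV_apply (f : X ⟶ Y) (g : Y ⟶ Z) (k : X ⟶ Z) (w : f ≫ g = k) (F : EtCoh.Ab Z) (W : Z.Etale)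
    (y : EtCoh.sect F W) (m : (EtCoh.bc k).obj W ⟶ (EtCoh.bc f).obj ((EtCoh.bc g).obj W))
    (hm : ∀ (H : EtCoh.Ab X) (x : EtCoh.sect H ((EtCoh.bc f).obj ((EtCoh.bc g).obj W))),
      ((qV f g k w).hom.app H).hom.app (op W) x = H.obj.map m.op x) :
    ((EtCoh.pullPushAdj k).unit.app F).hom.app (op W) y =
      ((pV f g k w).hom.app F).hom.app (op ((EtCoh.bc k).obj W))
        (((EtCoh.pull f).obj ((EtCoh.pull g).obj F)).obj.map m.op
          (((EtCoh.pullPushAdj f).unit.app ((EtCoh.pull g).obj F)).hom.app (op ((EtCoh.bc g).obj W))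
            (((EtCoh.pullPushAdj g).unit.app F).hom.app (op W) y))) := by
  exact unit4 f g k ((EtCoh.pullPushAdj g).unit.app F) ((EtCoh.pullPushAdj f).unit.app ((EtCoh.pull g).obj F))
    ((qV f g k w).hom.app ((EtCoh.pull f).obj ((EtCoh.pull g).obj F))) ((pV f g k w).hom.app F)
    ((EtCoh.pullPushAdj k).unit.app F) (unit_pV f g k w F) W y _
    (hm ((EtCoh.pull f).obj ((EtCoh.pull g).obj F)) _)

variable {Ω : Type u} [Field Ω] [IsSepClosed Ω]

/-- The germ of a restriction. -/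
theorem germ_map' (ξ : Spec (CommRingCat.of Ω) ⟶ X) (F : EtCoh.Ab X) {U V : X.Etale} (g : V ⟶ U)
    (t : (Scheme.pointSmallEtale ξ).fiber.obj V) (s : EtCoh.sect F U) :
    germ ξ F t (F.obj.map g.op s) = germ ξ F ((Scheme.pointSmallEtale ξ).fiber.map g t) s :=
  germ_map ξ F g t s

/-- Points of a base change are determined by their first projection. -/
theorem fiber_bc_ext (f : X ⟶ Y) {ξ : Spec (CommRingCat.of Ω) ⟶ X} {W : Y.Etale}
    (a b : (Scheme.pointSmallEtale ξ).fiber.obj ((EtCoh.bc f).obj W))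
    (h : a.left ≫ pullback.fst W.hom f = b.left ≫ pullback.fst W.hom f) : a = b := by
  apply Over.OverMorphism.ext
  exact pullback.hom_ext h ((Over.w a).trans (Over.w b).symm)

variable [IsAlgClosed Ω]

theorem fst_liftPt (f : X ⟶ Y) {η : Spec (CommRingCat.of Ω) ⟶ Y} {W : Y.Etale}
    (w : (Scheme.pointSmallEtale η).fiber.obj W) (ξ : Spec (CommRingCat.of Ω) ⟶ X) (hξ : ξ ≫ f = η) :
    (liftPt f w ξ hξ).left ≫ pullback.fst W.hom f = w.left :=
  pullback.lift_fst _ _ _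

theorem injective_down (f : X ⟶ Y) {η : Spec (CommRingCat.of Ω) ⟶ Y} (ξ : Spec (CommRingCat.of Ω) ⟶ X)
    (hξ : ξ ≫ f = η) (F : EtCoh.Ab Y) : Function.Injective (down f ξ hξ F) := by
  subst hξ
  rw [down, eqToHom_refl, Category.comp_id]
  exact (ConcreteCategory.bijective_of_isIso _).injective

/-- The stalk of a composite inverse image is the stalk at the image of the image. -/
theorem down_pV (f : X ⟶ Y) (g : Y ⟶ Z) (k : X ⟶ Z) (w : f ≫ g = k) (F : EtCoh.Ab Z)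
    {η₀ : Spec (CommRingCat.of Ω) ⟶ Z} {η : Spec (CommRingCat.of Ω) ⟶ Y} (ξ : Spec (CommRingCat.of Ω) ⟶ X)
    (hξ : ξ ≫ f = η) (hη : η ≫ g = η₀) (hk : ξ ≫ k = η₀)
    (a : (EtCoh.stalk ξ).obj ((EtCoh.pull f).obj ((EtCoh.pull g).obj F))) :
    down k ξ hk F ((EtCoh.stalk ξ).map ((pV f g k w).hom.app F) a) =
      down g η hη F (down f ξ hξ ((EtCoh.pull g).obj F) a) := by
  obtain ⟨W₁, w₁, z, rfl⟩ := exists_eq_unit f ξ hξ ((EtCoh.pull g).obj F) a
  obtain ⟨W, w₀, y, hy⟩ := exists_eq_unit g η hη F (germ η ((EtCoh.pull g).obj F) w₁ z)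
  have e : germ ξ ((EtCoh.pull f).obj ((EtCoh.pull g).obj F)) (liftPt f w₁ ξ hξ)
        (((EtCoh.pullPushAdj f).unit.app ((EtCoh.pull g).obj F)).hom.app (op W₁) z) =
      germ ξ ((EtCoh.pull f).obj ((EtCoh.pull g).obj F)) (liftPt f (liftPt g w₀ η hη) ξ hξ)
        (((EtCoh.pullPushAdj f).unit.app ((EtCoh.pull g).obj F)).hom.app (op ((EtCoh.bc g).obj W))
          (((EtCoh.pullPushAdj g).unit.app F).hom.app (op W) y)) :=
    injective_down f ξ hξ _ ((down_unit f ξ hξ _ w₁ z).trans (hy.symm.trans (down_unit f ξ hξ _ _ _).symm))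
  rw [e, down_unit, down_unit]
  obtain ⟨m, hm, hm'⟩ := exists_qV_hom f g k w W
  refine Eq.trans (congrArg (down k ξ hk F) ?_) (down_unit k ξ hk F w₀ y)
  have hp : (Scheme.pointSmallEtale ξ).fiber.map m (liftPt k w₀ ξ hk) = liftPt f (liftPt g w₀ η hη) ξ hξ := by
    refine fiber_bc_ext f _ _ ?_
    refine Eq.trans ?_ (fst_liftPt f (liftPt g w₀ η hη) ξ hξ).symm
    apply pullback.hom_ext
    · refine Eq.trans ?_ (fst_liftPt g w₀ η hη).symm
      show (((liftPt k w₀ ξ hk).left ≫ m.left) ≫ pullback.fst (pullback.snd W.hom g) f) ≫ pullback.fst W.hom g = _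
      simp only [Category.assoc, hm]
      exact fst_liftPt k w₀ ξ hk
    · refine Eq.trans ?_ (Over.w (liftPt g w₀ η hη)).symm
      show (((liftPt k w₀ ξ hk).left ≫ m.left) ≫ pullback.fst (pullback.snd W.hom g) f) ≫ pullback.snd W.hom g = η
      rw [Category.assoc, pullback.condition, ← Category.assoc]
      exact (congrArg (· ≫ f) (Over.w ((Scheme.pointSmallEtale ξ).fiber.map m (liftPt k w₀ ξ hk)))).trans hξ
  rw [← hp, ← germ_map']
  refine (stalk_map_germ ξ _ _ _).trans (congrArg (germ ξ ((EtCoh.pull k).obj F) (liftPt k w₀ ξ hk)) ?_)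
  exact (unit_pV_apply f g k w F W y m hm').symm

theorem trans_symm_app {C : Type*} [Category C] {D : Type*} [Category D] {F G H : C ⥤ D} (a : G ≅ F) (b : G ≅ H)
    (c : C) : (a.symm ≪≫ b).hom.app c = a.inv.app c ≫ b.hom.app c :=
  rfl

theorem pV_hom_app (f : X ⟶ Y) (g : Y ⟶ Z) (k : X ⟶ Z) (w : f ≫ g = k) (F : EtCoh.Ab Z) :
    (pV f g k w).hom.app F = (EtCore.pullComp f g).inv.app F ≫ (EtCore.pullCongr w).hom.app F := by
  have h : pV f g k w = (EtCore.pullComp f g).symm ≪≫ EtCore.pullCongr w := by delta pV; rfl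
  rw [h]
  exact trans_symm_app _ _ F

theorem pullCongr_rfl_app (f : X ⟶ Y) (F : EtCoh.Ab Y) :
    (EtCore.pullCongr (rfl : f = f)).hom.app F = 𝟙 ((EtCoh.pull f).obj F) :=
  rfl

theorem cancel_iso_id {C : Type*} [Category C] {A B D E : C} (a : A ⟶ B) (b : B ⟶ D) (e : D ⟶ E) (e' : E ⟶ D)
    (he : e ≫ e' = 𝟙 D) (i : D ⟶ D) (hi : i = 𝟙 D) : (a ≫ b ≫ e) ≫ e' ≫ i = a ≫ b := by
  subst hi
  rw [Category.comp_id, Category.assoc, Category.assoc, he, Category.comp_id]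

theorem square_comp_pV {X' S' S : Scheme.{u}} (g' : X' ⟶ X) (f : X ⟶ S) (f' : X' ⟶ S') (g : S' ⟶ S)
    (w : g' ≫ f = f' ≫ g) (F : EtCoh.Ab S) :
    ((EtCore.pullComp g' f).inv.app F ≫ (EtCore.pullCongr w).hom.app F ≫ (EtCore.pullComp f' g).hom.app F) ≫
        (pV f' g (f' ≫ g) rfl).hom.app F = (pV g' f (f' ≫ g) w).hom.app F :=
  ((congrArg (_ ≫ ·) (pV_hom_app f' g (f' ≫ g) rfl F)).trans
    (cancel_iso_id _ _ _ _ (Iso.hom_inv_id_app (EtCore.pullComp f' g) F) _ (pullCongr_rfl_app (f' ≫ g) F))).trans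
    (pV_hom_app g' f (f' ≫ g) w F).symm

theorem stalk_map_of_comp {A B C : EtCoh.Ab X} (a : A ⟶ B) (b : B ⟶ C) (c : A ⟶ C) (h : a ≫ b = c)
    (ξ : Spec (CommRingCat.of Ω) ⟶ X) (x : (EtCoh.stalk ξ).obj A) :
    (EtCoh.stalk ξ).map b ((EtCoh.stalk ξ).map a x) = (EtCoh.stalk ξ).map c x := by
  subst h
  rw [Functor.map_comp]
  rfl

/-- The comparison of the two inverse images to a commutative square. -/
theorem down_square {X' S' S : Scheme.{u}} (g' : X' ⟶ X) (f : X ⟶ S) (f' : X' ⟶ S') (g : S' ⟶ S)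
    (w : g' ≫ f = f' ≫ g) (F : EtCoh.Ab S) {η' : Spec (CommRingCat.of Ω) ⟶ S'}
    (ξ' : Spec (CommRingCat.of Ω) ⟶ X') (hξ : ξ' ≫ f' = η')
    (a : (EtCoh.stalk ξ').obj ((EtCoh.pull g').obj ((EtCoh.pull f).obj F))) :
    down g η' rfl F (down f' ξ' hξ ((EtCoh.pull g).obj F) ((EtCoh.stalk ξ').map
        ((EtCore.pullComp g' f).inv.app F ≫ (EtCore.pullCongr w).hom.app F ≫ (EtCore.pullComp f' g).hom.app F) a)) =
      down f (ξ' ≫ g') (by rw [Category.assoc, w, ← Category.assoc, hξ]) F (down g' ξ' rfl ((EtCoh.pull f).obj F) a) := by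
  have hk : ξ' ≫ f' ≫ g = η' ≫ g := by rw [← Category.assoc, hξ]
  rw [← down_pV f' g (f' ≫ g) rfl F ξ' hξ rfl hk, ← down_pV g' f (f' ≫ g) w F ξ' rfl _ hk]
  refine congrArg (down (f' ≫ g) ξ' hk F) ?_
  exact stalk_map_of_comp _ _ _ (square_comp_pV g' f f' g w F) ξ' a

end GrothLib.Trace19
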