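import Groth.Agent.Lib.Trace19.BaseChange

/-!
# The trace of a composite
-/

set_option autoImplicit false
set_option backward.isDefEq.respectTransparency false
set_option backward.isDefEq.respectTransparency.types false
set_option linter.style.haveILetI false
set_option linter.unusedSectionVars false

universe u

open CategoryTheory CategoryTheory.Limits AlgebraicGeometry Opposite
open GrothLib.EtSite GrothLib.Weight GrothLib.EtLimit

noncomputable section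

namespace GrothLib.Trace19

variable {X Y S : Scheme.{u}} {h : X ⟶ Y} {g : Y ⟶ S}

/-- The properties of the comparison maps used below. -/
structure CompData (F : EtCoh.Ab S) (β : (EtCoh.pull (h ≫ g)).obj F ⟶ (EtCoh.pull h).obj ((EtCoh.pull g).obj F))
    (γ : (EtCoh.push (h ≫ g)).obj ((EtCoh.pull h).obj ((EtCoh.pull g).obj F)) ⟶
      (EtCoh.push g).obj ((EtCoh.push h).obj ((EtCoh.pull h).obj ((EtCoh.pull g).obj F)))) : Prop where
  sect : ∀ U : S.Etale, ∃ m : (EtCoh.bc h).obj ((EtCoh.bc g).obj U) ⟶ (EtCoh.bc (h ≫ g)).obj U,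
      m.left ≫ pullback.fst U.hom (h ≫ g) = pullback.fst (pullback.snd U.hom g) h ≫ pullback.fst U.hom g ∧
        ∀ z : EtCoh.sect ((EtCoh.pull h).obj ((EtCoh.pull g).obj F)) ((EtCoh.bc (h ≫ g)).obj U),
          γ.hom.app (op U) z = ((EtCoh.pull h).obj ((EtCoh.pull g).obj F)).obj.map m.op z
  down_eq : ∀ (Ω : Type u) [Field Ω] [IsAlgClosed Ω] (η : Spec (CommRingCat.of Ω) ⟶ S)
    (ξ : Spec (CommRingCat.of Ω) ⟶ Y) (hξ : ξ ≫ g = η) (ζ : Spec (CommRingCat.of Ω) ⟶ X) (hζ : ζ ≫ h = ξ)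
    (hk : ζ ≫ h ≫ g = η) (a : (EtCoh.stalk ζ).obj ((EtCoh.pull (h ≫ g)).obj F)),
    down g ξ hξ F (down h ζ hζ ((EtCoh.pull g).obj F) ((EtCoh.stalk ζ).map β a)) = down (h ≫ g) ζ hk F a

variable [IsFinite h] [Flat h] [IsFinite g] [Flat g] {F : EtCoh.Ab S}
  {β : (EtCoh.pull (h ≫ g)).obj F ⟶ (EtCoh.pull h).obj ((EtCoh.pull g).obj F)}
  {γ : (EtCoh.push (h ≫ g)).obj ((EtCoh.pull h).obj ((EtCoh.pull g).obj F)) ⟶
      (EtCoh.push g).obj ((EtCoh.push h).obj ((EtCoh.pull h).obj ((EtCoh.pull g).obj F)))}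

theorem comp_component (D : CompData F β γ)
    {τh : (EtCoh.push h).obj ((EtCoh.pull h).obj ((EtCoh.pull g).obj F)) ⟶ (EtCoh.pull g).obj F}
    (hh : IsTr h ((EtCoh.pull g).obj F) τh) {Ω : Type u} [Field Ω] [IsAlgClosed Ω]
    {η : Spec (CommRingCat.of Ω) ⟶ S} {U : S.Etale} (t : (Scheme.pointSmallEtale η).fiber.obj U)
    (s : EtCoh.sect ((EtCoh.pull (h ≫ g)).obj F) ((EtCoh.bc (h ≫ g)).obj U)) (ξ : GeomPts g η)
    [Fintype (GeomPts h ξ.1)] :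
    comp g ξ.1 ξ.2 F (germ η ((EtCoh.push g).obj ((EtCoh.pull g).obj F)) t
        (τh.hom.app (op ((EtCoh.bc g).obj U)) (γ.hom.app (op U) (β.hom.app (op ((EtCoh.bc (h ≫ g)).obj U)) s)))) =
      ∑ ζ : GeomPts h ξ.1, mult h (pt ζ.1) • comp (h ≫ g) ζ.1 (by rw [← Category.assoc, ζ.2, ξ.2]) F
        (germ η ((EtCoh.push (h ≫ g)).obj ((EtCoh.pull (h ≫ g)).obj F)) t s) := by
  obtain ⟨m, hm, e⟩ := D.sect U
  rw [comp_germ, e]
  refine (congrArg (down g ξ.1 ξ.2 F) ((stalk_map_germ ξ.1 τh (liftPt g t ξ.1 ξ.2) _).symm.trans (hh Ω ξ.1 _))).trans ?_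
  rw [trVal_apply, map_sum]
  refine Finset.sum_congr rfl fun ζ _ => ?_
  have hk : ζ.1 ≫ h ≫ g = η := by rw [← Category.assoc, ζ.2, ξ.2]
  rw [map_zsmul, comp_germ, comp_germ]
  congr 1
  refine Eq.trans ?_ (D.down_eq Ω η ξ.1 ξ.2 ζ.1 ζ.2 hk _)
  refine congrArg (fun z => down g ξ.1 ξ.2 F (down h ζ.1 ζ.2 ((EtCoh.pull g).obj F) z)) ?_
  refine Eq.trans ?_ (stalk_map_germ ζ.1 β (liftPt (h ≫ g) t ζ.1 hk) s).symm
  refine (germ_map ζ.1 ((EtCoh.pull h).obj ((EtCoh.pull g).obj F)) m _ _).trans ?_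
  refine congrArg (fun p => germ ζ.1 ((EtCoh.pull h).obj ((EtCoh.pull g).obj F)) p _) (fiber_bc_ext (h ≫ g) _ _ ?_)
  refine Eq.trans ?_ (fst_liftPt (h ≫ g) t ζ.1 hk).symm
  show ((liftPt h (liftPt g t ξ.1 ξ.2) ζ.1 ζ.2).left ≫ m.left) ≫ pullback.fst U.hom (h ≫ g) = t.left
  rw [Category.assoc, hm, ← Category.assoc]
  exact (congrArg (· ≫ pullback.fst U.hom g) (fst_liftPt h (liftPt g t ξ.1 ξ.2) ζ.1 ζ.2)).trans
    (fst_liftPt g t ξ.1 ξ.2)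

set_option maxRecDepth 4000 in
theorem IsTr.comp_aux [IsFinite (h ≫ g)] (D : CompData F β γ)
    {τk : (EtCoh.push (h ≫ g)).obj ((EtCoh.pull (h ≫ g)).obj F) ⟶ F}
    {τh : (EtCoh.push h).obj ((EtCoh.pull h).obj ((EtCoh.pull g).obj F)) ⟶ (EtCoh.pull g).obj F}
    {τg : (EtCoh.push g).obj ((EtCoh.pull g).obj F) ⟶ F}
    (hk : IsTr (h ≫ g) F τk) (hh : IsTr h ((EtCoh.pull g).obj F) τh) (hg : IsTr g F τg) :
    τk = (EtCoh.push (h ≫ g)).map β ≫ γ ≫ (EtCoh.push g).map τh ≫ τg := by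
  classical
  refine hom_ext_stalksAC fun Ω _ _ η x => ?_
  obtain ⟨U, t, s, rfl⟩ := exists_germ η _ x
  refine (hk Ω η _).trans (Eq.symm ?_)
  refine ((stalk_map_germ η _ t s).trans
    ((stalk_map_germ η τg t _).symm.trans (hg Ω η _))).trans ?_
  haveI := finite_geomPts g η (g.finite_preimage_singleton _)
  haveI := finite_geomPts (h ≫ g) η ((h ≫ g).finite_preimage_singleton _)
  haveI : ∀ ξ : GeomPts g η, Finite (GeomPts h ξ.1) := fun ξ => finite_geomPts h ξ.1 (h.finite_preimage_singleton _)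
  letI := Fintype.ofFinite (GeomPts g η)
  letI := Fintype.ofFinite (GeomPts (h ≫ g) η)
  letI : ∀ ξ : GeomPts g η, Fintype (GeomPts h ξ.1) := fun ξ => Fintype.ofFinite _
  rw [trVal_apply, trVal_apply]
  refine (Finset.sum_congr rfl fun ξ _ => congrArg (mult g (pt ξ.1) • ·) (comp_component D hh t s ξ)).trans ?_
  simp only [Finset.smul_sum, ← mul_smul]
  rw [← Finset.sum_sigma (Finset.univ : Finset (GeomPts g η)) (fun _ => Finset.univ)
    (fun p : Σ ξ : GeomPts g η, GeomPts h ξ.1 => (mult g (pt p.1.1) * mult h (pt p.2.1)) •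
      comp (h ≫ g) p.2.1 (by rw [← Category.assoc, p.2.2, p.1.2]) F
        (germ η ((EtCoh.push (h ≫ g)).obj ((EtCoh.pull (h ≫ g)).obj F)) t s))]
  refine Finset.sum_bij (fun p _ => (⟨p.2.1, by rw [← Category.assoc, p.2.2, p.1.2]⟩ : GeomPts (h ≫ g) η))
    (fun _ _ => Finset.mem_univ _) ?_ ?_ ?_
  · rintro ⟨⟨ξ, hξ⟩, ⟨ζ, hζ⟩⟩ _ ⟨⟨ξ', hξ'⟩, ⟨ζ', hζ'⟩⟩ _ e
    obtain rfl : ζ = ζ' := congrArg Subtype.val e
    obtain rfl : ξ = ξ' := hζ.symm.trans hζ'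
    rfl
  · intro ζ _
    exact ⟨⟨⟨ζ.1 ≫ h, by rw [Category.assoc, ζ.2]⟩, ⟨ζ.1, rfl⟩⟩,
      Finset.mem_sigma.2 ⟨Finset.mem_univ _, Finset.mem_univ _⟩, rfl⟩
  · rintro ⟨⟨ξ, hξ⟩, ⟨ζ, hζ⟩⟩ _
    have e : mult g (pt ξ) * mult h (pt ζ) = mult (h ≫ g) (pt ζ) := by
      rw [mult_comp h g, mul_comm, show pt ξ = h (pt ζ) from (congrArg pt hζ).symm]
    exact congrArg (fun c : ℤ => c • _) e

theorem IsTr.comp [IsFinite (h ≫ g)]
    {τk : (EtCoh.push (h ≫ g)).obj ((EtCoh.pull (h ≫ g)).obj F) ⟶ F}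
    {τh : (EtCoh.push h).obj ((EtCoh.pull h).obj ((EtCoh.pull g).obj F)) ⟶ (EtCoh.pull g).obj F}
    {τg : (EtCoh.push g).obj ((EtCoh.pull g).obj F) ⟶ F}
    (hk : IsTr (h ≫ g) F τk) (hh : IsTr h ((EtCoh.pull g).obj F) τh) (hg : IsTr g F τg) :
    τk = (EtCoh.push (h ≫ g)).map ((EtCore.pullComp h g).hom.app F) ≫
      (EtCoh.pushComp g h).inv.app ((EtCoh.pull h).obj ((EtCoh.pull g).obj F)) ≫ (EtCoh.push g).map τh ≫ τg := by
  refine IsTr.comp_aux ⟨fun U => ?_, fun Ω _ _ η ξ hξ ζ hζ hk' a => ?_⟩ hk hh hg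
  · obtain ⟨m, hm, e⟩ := exists_pushComp_inv h g U
    exact ⟨m, hm, fun z => e _ z⟩
  · rw [← down_pV h g (h ≫ g) rfl F ζ hζ hξ hk']
    refine congrArg (down (h ≫ g) ζ hk' F) ((stalk_map_of_comp _ _ (𝟙 _) ?_ ζ a).trans ?_)
    · rw [pV_hom_app, pullCongr_rfl_app]
      exact (congrArg (_ ≫ ·) (Category.comp_id _)).trans (Iso.hom_inv_id_app (EtCore.pullComp h g) F)
    · rw [CategoryTheory.Functor.map_id]
      rfl

end GrothLib.Trace19
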