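import Groth.Agent.Lib.Trace19.Mult
import Groth.Agent.Lib.EtTrace21.Basic
import Groth.Agent.Lib.EtSite.BaseChange

/-!
# The stalkwise formula for the trace of a finite flat morphism
-/

set_option autoImplicit false
set_option backward.isDefEq.respectTransparency false
set_option backward.isDefEq.respectTransparency.types false
set_option linter.style.haveILetI false
set_option linter.unusedSectionVars false

universe u

open CategoryTheory CategoryTheory.Limits AlgebraicGeometry Opposite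
open GrothLib.EtSite GrothLib.Weight

noncomputable section

namespace GrothLib.Trace19

variable {X Y : Scheme.{u}}

/-- Morphisms of sheaves are determined by stalks at algebraically closed geometric points. -/
theorem hom_ext_stalksAC {F G : EtCoh.Ab X} {a b : F ⟶ G}
    (h : ∀ (Ω : Type u) [Field Ω] [IsAlgClosed Ω] (η : Spec (CommRingCat.of Ω) ⟶ X) (x : (EtCoh.stalk η).obj F),
      (EtCoh.stalk η).map a x = (EtCoh.stalk η).map b x) : a = b := by
  refine ObjectProperty.hom_ext _ (NatTrans.ext ?_)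
  ext V s
  refine sub_eq_zero.1 (EtTrace21.section_eq_zero_of_germsAC G V.unop _ fun Ω _ _ η t => ?_)
  have e := h Ω η (germ η F t s)
  rw [stalk_map_germ, stalk_map_germ] at e
  rw [map_sub, sub_eq_zero]
  exact e

variable (f : X ⟶ Y) {Ω : Type u} [Field Ω] [IsAlgClosed Ω] {η : Spec (CommRingCat.of Ω) ⟶ Y}

/-- The stalk of an inverse image is the stalk at the image point. -/
def down (ξ : Spec (CommRingCat.of Ω) ⟶ X) (hξ : ξ ≫ f = η) (F : EtCoh.Ab Y) :
    (EtCoh.stalk ξ).obj ((EtCoh.pull f).obj F) ⟶ (EtCoh.stalk η).obj F :=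
  (pullStalkIso ξ f).hom.app F ≫ eqToHom (by rw [hξ])

theorem down_unit (ξ : Spec (CommRingCat.of Ω) ⟶ X) (hξ : ξ ≫ f = η) (F : EtCoh.Ab Y) {W : Y.Etale}
    (w : (Scheme.pointSmallEtale η).fiber.obj W) (y : EtCoh.sect F W) :
    down f ξ hξ F (germ ξ ((EtCoh.pull f).obj F) (liftPt f w ξ hξ)
      (((EtCoh.pullPushAdj f).unit.app F).hom.app (op W) y)) = germ η F w y := by
  subst hξ
  rw [← fiberBcIso_inv_eq_liftPt]
  refine (congrArg (down f ξ rfl F) (germ_unit ξ f F w y)).trans ?_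
  exact congr($(Iso.inv_hom_id_app (pullStalkIso ξ f) F) (germ (ξ ≫ f) F w y))

theorem exists_eq_unit (ξ : Spec (CommRingCat.of Ω) ⟶ X) (hξ : ξ ≫ f = η) (F : EtCoh.Ab Y)
    (a : (EtCoh.stalk ξ).obj ((EtCoh.pull f).obj F)) :
    ∃ (W : Y.Etale) (w : (Scheme.pointSmallEtale η).fiber.obj W) (y : EtCoh.sect F W),
      germ ξ ((EtCoh.pull f).obj F) (liftPt f w ξ hξ) (((EtCoh.pullPushAdj f).unit.app F).hom.app (op W) y) = a :=
  exists_unit_germ hξ F a

theorem down_naturality (ξ : Spec (CommRingCat.of Ω) ⟶ X) (hξ : ξ ≫ f = η) {F G : EtCoh.Ab Y} (a : F ⟶ G)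
    (x : (EtCoh.stalk ξ).obj ((EtCoh.pull f).obj F)) :
    down f ξ hξ G ((EtCoh.stalk ξ).map ((EtCoh.pull f).map a) x) = (EtCoh.stalk η).map a (down f ξ hξ F x) := by
  subst hξ
  rw [down, down, eqToHom_refl, eqToHom_refl, Category.comp_id, Category.comp_id]
  exact congr($((pullStalkIso ξ f).hom.naturality a) x)

/-- The component at a point over `η` of the stalk of `f_* f^* F`. -/
def comp (ξ : Spec (CommRingCat.of Ω) ⟶ X) (hξ : ξ ≫ f = η) (F : EtCoh.Ab Y) :
    (EtCoh.stalk η).obj ((EtCoh.push f).obj ((EtCoh.pull f).obj F)) ⟶ (EtCoh.stalk η).obj F :=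
  ev f ξ hξ _ ≫ down f ξ hξ F

theorem comp_germ (ξ : Spec (CommRingCat.of Ω) ⟶ X) (hξ : ξ ≫ f = η) (F : EtCoh.Ab Y) {U : Y.Etale}
    (t : (Scheme.pointSmallEtale η).fiber.obj U) (s : EtCoh.sect ((EtCoh.pull f).obj F) ((EtCoh.bc f).obj U)) :
    comp f ξ hξ F (germ η ((EtCoh.push f).obj ((EtCoh.pull f).obj F)) t s) =
      down f ξ hξ F (germ ξ ((EtCoh.pull f).obj F) (liftPt f t ξ hξ) s) :=
  (ConcreteCategory.comp_apply _ _ _).trans (congrArg _ (ev_germ f ξ hξ _ t s))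

theorem comp_unit (ξ : Spec (CommRingCat.of Ω) ⟶ X) (hξ : ξ ≫ f = η) (F : EtCoh.Ab Y)
    (x : (EtCoh.stalk η).obj F) :
    comp f ξ hξ F ((EtCoh.stalk η).map ((EtCoh.pullPushAdj f).unit.app F) x) = x := by
  obtain ⟨W, w, y, rfl⟩ := exists_germ η F x
  refine (congrArg (comp f ξ hξ F) (stalk_map_germ η ((EtCoh.pullPushAdj f).unit.app F) w y)).trans ?_
  exact (comp_germ f ξ hξ F w _).trans (down_unit f ξ hξ F w y)

theorem comp_naturality (ξ : Spec (CommRingCat.of Ω) ⟶ X) (hξ : ξ ≫ f = η) {F G : EtCoh.Ab Y} (a : F ⟶ G)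
    (x : (EtCoh.stalk η).obj ((EtCoh.push f).obj ((EtCoh.pull f).obj F))) :
    comp f ξ hξ G ((EtCoh.stalk η).map ((EtCoh.push f).map ((EtCoh.pull f).map a)) x) =
      (EtCoh.stalk η).map a (comp f ξ hξ F x) := by
  obtain ⟨U, t, s, rfl⟩ := exists_germ η _ x
  refine (congrArg (comp f ξ hξ G) (stalk_map_germ η ((EtCoh.push f).map ((EtCoh.pull f).map a)) t s)).trans ?_
  refine (comp_germ f ξ hξ G t _).trans ?_
  refine Eq.trans ?_ (congrArg ((EtCoh.stalk η).map a) (comp_germ f ξ hξ F t s)).symm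
  refine Eq.trans ?_ (down_naturality f ξ hξ a _)
  exact congrArg (down f ξ hξ G) (stalk_map_germ ξ ((EtCoh.pull f).map a) (liftPt f t ξ hξ) s).symm

variable (η)

/-- The trace on the stalk at `η`: components weighted by multiplicities. -/
def trVal (F : EtCoh.Ab Y) :
    (EtCoh.stalk η).obj ((EtCoh.push f).obj ((EtCoh.pull f).obj F)) →+ (EtCoh.stalk η).obj F :=
  ∑ᶠ ξ : GeomPts f η, mult f (pt ξ.1) • (comp f ξ.1 ξ.2 F).hom

theorem trVal_apply [IsFinite f] [Fintype (GeomPts f η)] (F : EtCoh.Ab Y)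
    (x : (EtCoh.stalk η).obj ((EtCoh.push f).obj ((EtCoh.pull f).obj F))) :
    trVal f η F x = ∑ ξ : GeomPts f η, mult f (pt ξ.1) • comp f ξ.1 ξ.2 F x := by
  rw [trVal, finsum_eq_sum_of_fintype, AddMonoidHom.finsetSum_apply]
  rfl

theorem trVal_unit [IsFinite f] [Flat f] (F : EtCoh.Ab Y) (x : (EtCoh.stalk η).obj F) :
    trVal f η F ((EtCoh.stalk η).map ((EtCoh.pullPushAdj f).unit.app F) x) = f.finrank (pt η) • x := by
  haveI := finite_geomPts f η (f.finite_preimage_singleton _)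
  letI := Fintype.ofFinite (GeomPts f η)
  rw [trVal_apply]
  simp only [comp_unit]
  rw [← Finset.sum_smul, ← finsum_eq_sum_of_fintype, sum_mult, natCast_zsmul]

theorem trVal_naturality [IsFinite f] {F G : EtCoh.Ab Y} (a : F ⟶ G)
    (x : (EtCoh.stalk η).obj ((EtCoh.push f).obj ((EtCoh.pull f).obj F))) :
    trVal f η G ((EtCoh.stalk η).map ((EtCoh.push f).map ((EtCoh.pull f).map a)) x) =
      (EtCoh.stalk η).map a (trVal f η F x) := by
  haveI := finite_geomPts f η (f.finite_preimage_singleton _)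
  letI := Fintype.ofFinite (GeomPts f η)
  rw [trVal_apply, trVal_apply, map_sum]
  exact Finset.sum_congr rfl fun ξ _ => by rw [comp_naturality, map_zsmul]

/-- The stalks of `τ` are given by the formula. -/
def IsTr (F : EtCoh.Ab Y) (τ : (EtCoh.push f).obj ((EtCoh.pull f).obj F) ⟶ F) : Prop :=
  ∀ (Ω : Type u) [Field Ω] [IsAlgClosed Ω] (η : Spec (CommRingCat.of Ω) ⟶ Y)
    (x : (EtCoh.stalk η).obj ((EtCoh.push f).obj ((EtCoh.pull f).obj F))), (EtCoh.stalk η).map τ x = trVal f η F x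

variable {f}

theorem IsTr.eq {F : EtCoh.Ab Y} {τ τ' : (EtCoh.push f).obj ((EtCoh.pull f).obj F) ⟶ F} (h : IsTr f F τ)
    (h' : IsTr f F τ') : τ = τ' :=
  hom_ext_stalksAC fun Ω _ _ η x => (h Ω η x).trans (h' Ω η x).symm

theorem IsTr.unit_comp [IsFinite f] [Flat f] {F : EtCoh.Ab Y}
    {τ : (EtCoh.push f).obj ((EtCoh.pull f).obj F) ⟶ F} (h : IsTr f F τ) (n : ℕ) (hn : ∀ s : Y, f.finrank s = n) :
    (EtCoh.pullPushAdj f).unit.app F ≫ τ = n • 𝟙 F := by
  refine hom_ext_stalksAC fun Ω _ _ η x => ?_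
  obtain ⟨W, w, y, rfl⟩ := exists_germ η F x
  refine ((ConcreteCategory.congr_hom ((EtCoh.stalk η).map_comp _ _) _).trans
    ((ConcreteCategory.comp_apply _ _ _).trans ((h Ω η _).trans (trVal_unit f η F _)))).trans ?_
  refine Eq.trans ?_ (stalk_map_germ η (n • 𝟙 F) w y).symm
  rw [hn]
  exact (map_nsmul (AddMonoidHom.mk' (fun k : F ⟶ F => germ η F w (k.hom.app (op W) y))
    (fun a b => map_add (germ η F w).hom _ _)) n (𝟙 F)).symm

end GrothLib.Trace19
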