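import Groth.Agent.Lib.Trace19.Local

/-!
# The trace `f_* f^* ⟶ 𝟭` of a finite flat morphism
-/

set_option autoImplicit false
set_option backward.isDefEq.respectTransparency false
set_option backward.isDefEq.respectTransparency.types false
set_option linter.style.haveILetI false
set_option linter.unusedSectionVars false

universe u

open CategoryTheory CategoryTheory.Limits AlgebraicGeometry Opposite
open GrothLib.EtSite GrothLib.Weight

noncomputable section

namespace GrothLib.Trace19

variable {X Y : Scheme.{u}} (f : X ⟶ Y) [IsFinite f] [Flat f] [LocallyOfFinitePresentation f] (F : EtCoh.Ab Y)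

/-- A section with the prescribed germs. -/
def IsTrSec (U : Y.Etale) (s : EtCoh.sect ((EtCoh.pull f).obj F) ((EtCoh.bc f).obj U)) (y : EtCoh.sect F U) : Prop :=
  ∀ (Ω : Type u) [Field Ω] [IsAlgClosed Ω] (η : Spec (CommRingCat.of Ω) ⟶ Y)
    (t : (Scheme.pointSmallEtale η).fiber.obj U),
    germ η F t y = trVal f η F (germ η ((EtCoh.push f).obj ((EtCoh.pull f).obj F)) t s)

theorem IsTrSec.unique {U : Y.Etale} {s : EtCoh.sect ((EtCoh.pull f).obj F) ((EtCoh.bc f).obj U)}
    {y y' : EtCoh.sect F U} (h : IsTrSec f F U s y) (h' : IsTrSec f F U s y') : y = y' :=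
  sub_eq_zero.1 (EtTrace21.section_eq_zero_of_germsAC F U _ fun Ω _ _ η t => by
    rw [map_sub, h Ω η t, h' Ω η t, sub_self])

theorem IsTrSec.map {U V : Y.Etale} (g : V ⟶ U) {s : EtCoh.sect ((EtCoh.pull f).obj F) ((EtCoh.bc f).obj U)}
    {y : EtCoh.sect F U} (h : IsTrSec f F U s y) :
    IsTrSec f F V (((EtCoh.pull f).obj F).obj.map ((EtCoh.bc f).map g).op s) (F.obj.map g.op y) := by
  intro Ω _ _ η t
  refine (germ_map η F g t y).trans ((h Ω η _).trans (congrArg (trVal f η F) ?_))
  exact (germ_map η ((EtCoh.push f).obj ((EtCoh.pull f).obj F)) g t s).symm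

theorem exists_isTrSec (U : Y.Etale) (s : EtCoh.sect ((EtCoh.pull f).obj F) ((EtCoh.bc f).obj U)) :
    ∃ y, IsTrSec f F U s y := by
  let P := (EtCoh.pull f).obj F
  let R : Sieve U :=
    { arrows := fun V g => ∃ y, IsTrSec f F V (P.obj.map ((EtCoh.bc f).map g).op s) y
      downward_closed := by
        rintro V W g ⟨y, hy⟩ k
        refine ⟨F.obj.map k.op y, ?_⟩
        have e : P.obj.map ((EtCoh.bc f).map (k ≫ g)).op s =
            P.obj.map ((EtCoh.bc f).map k).op (P.obj.map ((EtCoh.bc f).map g).op s) := by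
          rw [← ConcreteCategory.comp_apply, ← Functor.map_comp, ← op_comp, ← Functor.map_comp]
        rw [e]
        exact hy.map f F k }
  have hR : R ∈ Y.smallEtaleTopology U := by
    rw [mem_topology_iff]
    intro u
    obtain ⟨t, ht⟩ := exists_fib (gac (U.hom.base u)) u (gac_default _).symm
    obtain ⟨V, e, v, y, hv, hy⟩ := exists_local f F s t
    exact ⟨V, e, _, ⟨y, hy⟩, (base_fiber_map _ e v t hv).trans ht⟩
  let x : Presieve.FamilyOfElements (F.obj ⋙ forget AddCommGrpCat.{u + 1}) R.arrows := fun V g hg => Classical.choose hg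
  have hx : ∀ {V : Y.Etale} (g : V ⟶ U) (hg : R g), IsTrSec f F V (P.obj.map ((EtCoh.bc f).map g).op s) (x g hg) :=
    fun g hg => Classical.choose_spec hg
  have hc : x.Compatible := by
    intro V₁ V₂ W g₁ g₂ f₁ f₂ h₁ h₂ e
    refine IsTrSec.unique f F ((hx f₁ h₁).map f F g₁) ?_
    have e' : P.obj.map ((EtCoh.bc f).map g₁).op (P.obj.map ((EtCoh.bc f).map f₁).op s) =
        P.obj.map ((EtCoh.bc f).map g₂).op (P.obj.map ((EtCoh.bc f).map f₂).op s) := by
      simp only [← ConcreteCategory.comp_apply, ← Functor.map_comp, ← op_comp, e]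
    rw [e']
    exact (hx f₂ h₂).map f F g₂
  have hF := ((isSheaf_iff_isSheaf_of_type _ _).1
    ((sheafCompose Y.smallEtaleTopology (forget AddCommGrpCat.{u + 1})).obj F).property) R hR
  refine ⟨hF.amalgamate x hc, fun Ω _ _ η t => ?_⟩
  obtain ⟨V, e, v, y, hv, hy⟩ := exists_local f F s t
  have he : R e := ⟨y, hy⟩
  rw [← hv, ← germ_map]
  refine (congrArg (germ η F v) (hF.valid_glue hc e he)).trans ((hx e he Ω η v).trans (congrArg (trVal f η F) ?_))
  exact germ_map η ((EtCoh.push f).obj P) e v s

/-- The trace at a sheaf. -/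
def trApp : (EtCoh.push f).obj ((EtCoh.pull f).obj F) ⟶ F :=
  ⟨{ app := fun U => AddCommGrpCat.ofHom (AddMonoidHom.mk'
        (fun s => Classical.choose (exists_isTrSec f F U.unop s)) fun s s' => by
          refine IsTrSec.unique f F (Classical.choose_spec (exists_isTrSec f F U.unop (s + s'))) fun Ω _ _ η t => ?_
          rw [map_add, map_add]
          refine (congrArg₂ (· + ·) (Classical.choose_spec (exists_isTrSec f F U.unop s) Ω η t)
            (Classical.choose_spec (exists_isTrSec f F U.unop s') Ω η t)).trans ?_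
          exact (map_add (trVal f η F) _ _).symm)
     naturality := fun U V g => by
      ext s
      exact IsTrSec.unique f F (Classical.choose_spec (exists_isTrSec f F V.unop _))
        ((Classical.choose_spec (exists_isTrSec f F U.unop s)).map f F g.unop) }⟩

theorem isTr_trApp : IsTr f F (trApp f F) := by
  intro Ω _ _ η x
  obtain ⟨U, t, s, rfl⟩ := exists_germ η _ x
  exact (stalk_map_germ η (trApp f F) t s).trans (Classical.choose_spec (exists_isTrSec f F U s) Ω η t)

/-- The trace of a finite flat morphism. -/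
def trace : EtCoh.pull f ⋙ EtCoh.push f ⟶ 𝟭 (EtCoh.Ab Y) where
  app F := trApp f F
  naturality F G a := hom_ext_stalksAC fun Ω _ _ η x => by
    refine (ConcreteCategory.congr_hom ((EtCoh.stalk η).map_comp _ _) x).trans ?_
    refine (ConcreteCategory.comp_apply _ _ _).trans ((isTr_trApp f G Ω η _).trans ?_)
    refine (trVal_naturality f η a x).trans ?_
    refine Eq.trans ?_ (ConcreteCategory.congr_hom ((EtCoh.stalk η).map_comp _ _) x).symm
    exact congrArg ((EtCoh.stalk η).map a) (isTr_trApp f F Ω η x).symm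

end GrothLib.Trace19
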