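import Groth.Agent.Lib.Trace19.Eval
import Groth.Agent.Lib.Weight.Weighting

/-!
# The stalkwise formula is locally given by sections
-/

set_option autoImplicit false
set_option backward.isDefEq.respectTransparency false
set_option backward.isDefEq.respectTransparency.types false
set_option linter.style.haveILetI false
set_option linter.unusedSectionVars false

universe u

open CategoryTheory CategoryTheory.Limits AlgebraicGeometry Opposite Topology
open GrothLib.EtSite GrothLib.Weight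

noncomputable section

namespace GrothLib.Trace19

variable {X Y : Scheme.{u}} (f : X ⟶ Y) (F : EtCoh.Ab Y)

/-- Components of a section which is, on a piece, the inverse image of a section. -/
theorem comp_eq_of_piece {V : Y.Etale} (O : ((EtCoh.bc f).obj V).left.Opens)
    (z : EtCoh.sect ((EtCoh.pull f).obj F) ((EtCoh.bc f).obj V)) (y : EtCoh.sect F V)
    (h : ((EtCoh.pull f).obj F).obj.map (opensHom _ O).op z =
      ((EtCoh.pull f).obj F).obj.map (opensHom _ O).op (((EtCoh.pullPushAdj f).unit.app F).hom.app (op V) y))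
    {Ω : Type u} [Field Ω] [IsAlgClosed Ω] {η : Spec (CommRingCat.of Ω) ⟶ Y}
    (v : (Scheme.pointSmallEtale η).fiber.obj V) (ξ : GeomPts f η) (hO : pt (liftPt f v ξ.1 ξ.2).left ∈ O) :
    comp f ξ.1 ξ.2 F (germ η ((EtCoh.push f).obj ((EtCoh.pull f).obj F)) v z) = germ η F v y := by
  refine (comp_germ f ξ.1 ξ.2 F v z).trans (Eq.trans (congrArg (down f ξ.1 ξ.2 F) ?_) (down_unit f ξ.1 ξ.2 F v y))
  have hι : IsOpenImmersion O.ι := Scheme.Opens.instIsOpenImmersionι O
  have hr : Set.range (liftPt f v ξ.1 ξ.2).left.base ⊆ Set.range O.ι.base := by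
    rw [Scheme.Opens.range_ι]
    exact range_subset_of_pt_mem _ hO
  let p : (Scheme.pointSmallEtale ξ.1).fiber.obj (opensObj _ O) :=
    fib ξ.1 (U := opensObj _ O) (@IsOpenImmersion.lift _ _ _ O.ι (liftPt f v ξ.1 ξ.2).left hι hr)
      (((Category.assoc _ _ _).symm.trans (congrArg (· ≫ _)
        (@IsOpenImmersion.lift_fac _ _ _ O.ι _ hι hr))).trans (Over.w (liftPt f v ξ.1 ξ.2)))
  have hp : (Scheme.pointSmallEtale ξ.1).fiber.map (opensHom _ O) p = liftPt f v ξ.1 ξ.2 :=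
    Over.OverMorphism.ext (@IsOpenImmersion.lift_fac _ _ _ O.ι _ hι hr)
  rw [← hp, ← germ_map, ← germ_map]
  exact congrArg (germ ξ.1 ((EtCoh.pull f).obj F) p) h

/-- The geometric points of a piece. -/
theorem sum_piece_eq {V : Y.Etale} (O : ((EtCoh.bc f).obj V).left.Opens) [IsFinite f] [Flat f]
    [LocallyOfFinitePresentation f] (hcl : IsClosed (O : Set ((EtCoh.bc f).obj V).left)) :
    IsLocallyConstant (MoreMor.fibreIntegral (O.ι ≫ pullback.fst V.hom f) (mult f ∘ ⇑(O.ι ≫ pullback.snd V.hom f))) ∧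
      ∀ (Ω : Type u) [Field Ω] [IsAlgClosed Ω] (η : Spec (CommRingCat.of Ω) ⟶ Y)
        (v : (Scheme.pointSmallEtale η).fiber.obj V) [Fintype (GeomPts f η)]
        [DecidablePred fun ξ : GeomPts f η => pt (liftPt f v ξ.1 ξ.2).left ∈ O],
        ∑ ξ ∈ Finset.univ.filter (fun ξ : GeomPts f η => pt (liftPt f v ξ.1 ξ.2).left ∈ O), mult f (pt ξ.1) =
          MoreMor.fibreIntegral (O.ι ≫ pullback.fst V.hom f) (mult f ∘ ⇑(O.ι ≫ pullback.snd V.hom f)) (pt v.left) := by
  haveI : IsOpenImmersion O.ι := Scheme.Opens.instIsOpenImmersionι O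
  haveI : IsClosedImmersion O.ι := .of_isPreimmersion _ (by rw [Scheme.Opens.range_ι]; exact hcl)
  haveI : IsFinite (pullback.fst V.hom f) := inferInstance
  let π : (O : Scheme.{u}) ⟶ V.left := O.ι ≫ pullback.fst V.hom f
  let a : (O : Scheme.{u}) ⟶ X := O.ι ≫ pullback.snd V.hom f
  haveI : IsFinite π := inferInstanceAs (IsFinite (O.ι ≫ pullback.fst V.hom f))
  have hw : a ≫ f = π ≫ V.hom := by simp only [a, π, Category.assoc, pullback.condition]
  refine ⟨?_, fun Ω _ _ η v _ _ => ?_⟩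
  · have hP : Piece f V.hom π a := by
      refine ⟨inferInstance, hw, ?_⟩
      rw [show pullback.lift a π hw = O.ι ≫ (pullbackSymmetry V.hom f).hom by
        apply pullback.hom_ext <;> simp [a, π]]
      infer_instance
    haveI : Etale V.hom := V.prop
    exact hP.isLocallyConstant (isWeighting_mult f)
  · haveI := finite_geomPts π v.left (π.finite_preimage_singleton _)
    letI := Fintype.ofFinite (GeomPts π v.left)
    refine Eq.trans ?_ (fibreIntegral_eq π v.left (mult f ∘ ⇑a)).symm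
    rw [finsum_eq_sum_of_fintype]
    have hr : ∀ q : GeomPts π v.left, (q.1 ≫ a) ≫ f = η := fun q => by
      rw [Category.assoc, hw, reassoc_of% q.2]
      exact Over.w v
    have hlift : ∀ q : GeomPts π v.left, (liftPt f v (q.1 ≫ a) (hr q)).left = q.1 ≫ O.ι := fun q => by
      show pullback.lift v.left (q.1 ≫ a) _ = _
      apply pullback.hom_ext
      · rw [pullback.lift_fst, Category.assoc]; exact q.2.symm
      · rw [pullback.lift_snd, Category.assoc]
    let i : GeomPts π v.left → GeomPts f η := fun q => ⟨q.1 ≫ a, hr q⟩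
    have hval : ∀ q : GeomPts π v.left, (mult f ∘ ⇑a) (pt q.1) = mult f (pt (i q).1) := fun q =>
      congrArg (mult f) (pt_comp q.1 a).symm
    rw [Finset.sum_congr rfl (fun q _ => hval q)]
    refine (Finset.sum_bij (fun q _ => i q) (fun q _ => ?_) (fun q _ q' _ e => ?_)
      (fun ξ hξ => ?_) (fun q _ => rfl)).symm
    · rw [Finset.mem_filter]
      refine ⟨Finset.mem_univ _, ?_⟩
      rw [hlift q]
      exact (pt q.1).2
    · refine Subtype.ext ((cancel_mono O.ι).1 ?_)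
      rw [← hlift q, ← hlift q']
      exact congrArg (β := Spec (CommRingCat.of Ω) ⟶ ((EtCoh.bc f).obj V).left) (fun z : GeomPts f η => (liftPt f v z.1 z.2).left) e
    · have hO := (Finset.mem_filter.1 hξ).2
      have hr' : Set.range (liftPt f v ξ.1 ξ.2).left.base ⊆ Set.range O.ι.base := by
        rw [Scheme.Opens.range_ι]
        exact range_subset_of_pt_mem _ hO
      let q := IsOpenImmersion.lift O.ι (liftPt f v ξ.1 ξ.2).left hr'
      have hq : q ≫ O.ι = (liftPt f v ξ.1 ξ.2).left := IsOpenImmersion.lift_fac _ _ _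
      refine ⟨⟨q, ?_⟩, Finset.mem_univ _, Subtype.ext ?_⟩
      · show q ≫ O.ι ≫ pullback.fst V.hom f = v.left
        rw [reassoc_of% hq]
        exact pullback.lift_fst _ _ _
      · show q ≫ O.ι ≫ pullback.snd V.hom f = ξ.1
        rw [reassoc_of% hq]
        exact pullback.lift_snd _ _ _

/-- Near every geometric point the formula is given by a section. -/
theorem exists_local [IsFinite f] [Flat f] [LocallyOfFinitePresentation f] {U : Y.Etale}
    (s : EtCoh.sect ((EtCoh.pull f).obj F) ((EtCoh.bc f).obj U)) {Ω : Type u} [Field Ω] [IsAlgClosed Ω]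
    {η : Spec (CommRingCat.of Ω) ⟶ Y} (t : (Scheme.pointSmallEtale η).fiber.obj U) :
    ∃ (V : Y.Etale) (e : V ⟶ U) (v : (Scheme.pointSmallEtale η).fiber.obj V) (y : EtCoh.sect F V),
      (Scheme.pointSmallEtale η).fiber.map e v = t ∧
        ∀ (Ω' : Type u) [Field Ω'] [IsAlgClosed Ω'] (η' : Spec (CommRingCat.of Ω') ⟶ Y)
          (v' : (Scheme.pointSmallEtale η').fiber.obj V),
          germ η' F v' y = trVal f η' F (germ η' ((EtCoh.push f).obj ((EtCoh.pull f).obj F)) v'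
            (((EtCoh.pull f).obj F).obj.map ((EtCoh.bc f).map e).op s)) := by
  classical
  let P := (EtCoh.pull f).obj F
  let unit := fun (W : Y.Etale) (y : EtCoh.sect F W) => ((EtCoh.pullPushAdj f).unit.app F).hom.app (op W) y
  have hnat : ∀ {W W' : Y.Etale} (g : W' ⟶ W) (y : EtCoh.sect F W),
      unit W' (F.obj.map g.op y) = P.obj.map ((EtCoh.bc f).map g).op (unit W y) := fun g y =>
    NatTrans.naturality_apply ((EtCoh.pullPushAdj f).unit.app F).hom g.op y
  haveI := finite_geomPts f η (f.finite_preimage_singleton _)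
  letI := Fintype.ofFinite (GeomPts f η)
  choose W w y₀ hy₀ using fun ξ : GeomPts f η =>
    exists_eq_unit f ξ.1 ξ.2 F (germ ξ.1 P (liftPt f t ξ.1 ξ.2) s)
  let Φ := Scheme.pointSmallEtale η
  obtain ⟨⟨U₁, t₁⟩, hS⟩ := IsCofiltered.inf_objs_exists (C := Φ.fiber.Elements)
    (insert ⟨U, t⟩ (Finset.univ.image fun ξ : GeomPts f η => (⟨W ξ, w ξ⟩ : Φ.fiber.Elements)))
  obtain ⟨⟨e₁, he₁⟩⟩ := hS (X := ⟨U, t⟩) (Finset.mem_insert_self _ _)
  have hW : ∀ ξ, ∃ g : U₁ ⟶ W ξ, Φ.fiber.map g t₁ = w ξ := fun ξ => by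
    obtain ⟨⟨g, hg⟩⟩ := hS (X := ⟨W ξ, w ξ⟩) (Finset.mem_insert_of_mem (Finset.mem_image_of_mem _ (Finset.mem_univ ξ)))
    exact ⟨g, hg⟩
  choose g hg using hW
  dsimp only at e₁ he₁
  let s₁ : EtCoh.sect P ((EtCoh.bc f).obj U₁) := P.obj.map ((EtCoh.bc f).map e₁).op s
  let y₁ : GeomPts f η → EtCoh.sect F U₁ := fun ξ => F.obj.map (g ξ).op (y₀ ξ)
  have heq : ∀ ξ : GeomPts f η, germ ξ.1 P (liftPt f t₁ ξ.1 ξ.2) s₁ =
      germ ξ.1 P (liftPt f t₁ ξ.1 ξ.2) (unit U₁ (y₁ ξ)) := fun ξ => by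
    rw [hnat]
    simp only [s₁]
    rw [germ_map, germ_map, map_bc_liftPt, map_bc_liftPt, he₁, hg]
    exact (hy₀ ξ).symm
  choose T a p hp hTs using fun ξ => (germ_eq_iff _ _ _ _ _).1 (heq ξ)
  obtain ⟨V, e₂, v, O, k, hv, hdisj, hsup, hk, -⟩ := exists_site_nbhd f U₁ t₁ T a
    (fun x hx => by
      obtain ⟨ξ, hξ, hx'⟩ := exists_liftPt f t₁ x hx
      exact ⟨⟨ξ, hξ⟩, (p ⟨ξ, hξ⟩).left.base (default : Spec (CommRingCat.of Ω)),
        (base_fiber_map ξ (a ⟨ξ, hξ⟩) (p ⟨ξ, hξ⟩) _ (hp ⟨ξ, hξ⟩)).trans hx'⟩)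
    (fun ξ : GeomPts f η => ξ.1) (fun ξ => ξ.2) Subtype.val_injective id p hp
  let s₂ : EtCoh.sect P ((EtCoh.bc f).obj V) := P.obj.map ((EtCoh.bc f).map e₂).op s₁
  let y₂ : GeomPts f η → EtCoh.sect F V := fun i => F.obj.map e₂.op (y₁ i)
  have hpiece : ∀ i, P.obj.map (opensHom _ (O i)).op s₂ = P.obj.map (opensHom _ (O i)).op (unit V (y₂ i)) := by
    intro i
    rw [hnat]
    simp only [s₂, ← ConcreteCategory.comp_apply, ← Functor.map_comp, ← op_comp]
    rw [← hk i]
    simp only [op_comp, Functor.map_comp, ConcreteCategory.comp_apply]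
    exact congrArg _ (hTs i)
  have hcl : ∀ i, IsClosed ((O i : Set ((EtCoh.bc f).obj V).left)) := fun i => by
    rw [← isOpen_compl_iff]
    refine isOpen_iff_forall_mem_open.2 fun x hx => ?_
    obtain ⟨j, hj⟩ := TopologicalSpace.Opens.mem_iSup.1 (hsup ▸ trivial : x ∈ ⨆ i, O i)
    refine ⟨O j, fun z hz hzi => ?_, (O j).2, hj⟩
    exact ((hdisj j i (fun e => hx (e ▸ hj))).le_bot ⟨hz, hzi⟩ : z ∈ (⊥ : TopologicalSpace.Opens _))
  let N : GeomPts f η → V.left → ℤ := fun i =>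
    MoreMor.fibreIntegral ((O i).ι ≫ pullback.fst V.hom f) (mult f ∘ ⇑((O i).ι ≫ pullback.snd V.hom f))
  let O₀ : V.left.Opens := ⟨⋂ i, {z | N i z = N i (pt v.left)},
    isOpen_iInter_of_finite fun i => (sum_piece_eq f (O i) (hcl i)).1.isOpen_fiber _⟩
  have hvO : pt v.left ∈ O₀ := Set.mem_iInter.2 fun i => rfl
  have hι : IsOpenImmersion O₀.ι := Scheme.Opens.instIsOpenImmersionι O₀
  have hr : Set.range v.left.base ⊆ Set.range O₀.ι.base := by
    rw [Scheme.Opens.range_ι]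
    exact range_subset_of_pt_mem _ hvO
  let v₀ : Φ.fiber.obj (opensObj V O₀) :=
    fib η (U := opensObj V O₀) (@IsOpenImmersion.lift _ _ _ O₀.ι v.left hι hr)
      (((Category.assoc _ _ _).symm.trans (congrArg (· ≫ _)
        (@IsOpenImmersion.lift_fac _ _ _ O₀.ι _ hι hr))).trans (Over.w v))
  have hv₀ : Φ.fiber.map (opensHom V O₀) v₀ = v :=
    Over.OverMorphism.ext (@IsOpenImmersion.lift_fac _ _ _ O₀.ι _ hι hr)
  refine ⟨opensObj V O₀, opensHom V O₀ ≫ e₂ ≫ e₁, v₀,
    ∑ i, N i (pt v.left) • F.obj.map (opensHom V O₀).op (y₂ i), ?_, fun Ω' _ _ η' v' => ?_⟩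
  · rw [Functor.map_comp, Functor.map_comp, ConcreteCategory.comp_apply, ConcreteCategory.comp_apply, hv₀, hv, he₁]
  haveI := finite_geomPts f η' (f.finite_preimage_singleton _)
  letI := Fintype.ofFinite (GeomPts f η')
  let v'' := (Scheme.pointSmallEtale η').fiber.map (opensHom V O₀) v'
  have hmem : pt v''.left ∈ O₀ := (pt v'.left).2
  have hz : germ η' ((EtCoh.push f).obj P) v' (P.obj.map ((EtCoh.bc f).map (opensHom V O₀ ≫ e₂ ≫ e₁)).op s) =
      germ η' ((EtCoh.push f).obj P) v'' s₂ := by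
    refine Eq.trans ?_ (germ_map η' ((EtCoh.push f).obj P) (opensHom V O₀) v' s₂)
    refine congrArg _ ?_
    show _ = P.obj.map ((EtCoh.bc f).map (opensHom V O₀)).op (P.obj.map _ (P.obj.map _ s))
    simp only [← ConcreteCategory.comp_apply, ← Functor.map_comp, ← op_comp]
  rw [hz, trVal_apply, map_sum]
  have hex : ∀ ξ : GeomPts f η', ∃ i, pt (liftPt f v'' ξ.1 ξ.2).left ∈ O i := fun ξ =>
    TopologicalSpace.Opens.mem_iSup.1 (hsup ▸ trivial)
  choose idx hidx using hex
  have hidx' : ∀ (ξ : GeomPts f η') i, pt (liftPt f v'' ξ.1 ξ.2).left ∈ O i ↔ idx ξ = i := fun ξ i => by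
    refine ⟨fun hi => ?_, fun e => e ▸ hidx ξ⟩
    by_contra hne
    exact ((hdisj (idx ξ) i hne).le_bot ⟨hidx ξ, hi⟩ : _ ∈ (⊥ : TopologicalSpace.Opens _))
  rw [← Finset.sum_fiberwise (Finset.univ : Finset (GeomPts f η')) idx]
  refine Finset.sum_congr rfl fun i _ => ?_
  rw [map_zsmul, germ_map]
  refine Eq.trans ?_ (Finset.sum_congr rfl (g := fun ξ => mult f (pt ξ.1) • germ η' F v'' (y₂ i)) fun ξ hξ => ?_).symm
  · rw [← Finset.sum_smul]
    congr 1
    refine Eq.trans ?_ (Finset.sum_congr (Finset.filter_congr fun ξ _ => hidx' ξ i) fun _ _ => rfl)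
    rw [(sum_piece_eq f (O i) (hcl i)).2 Ω' η' v'']
    exact (Set.mem_iInter.1 hmem i).symm
  · congr 1
    exact comp_eq_of_piece f F (O i) s₂ (y₂ i) (hpiece i) v'' ξ ((hidx' ξ i).2 (Finset.mem_filter.1 hξ).2)

end GrothLib.Trace19
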