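import Groth.Agent.Lib.Weight.Multiplicity
import Groth.Agent.Lib.Weight.Split

/-!
# Multiplicities of a finite flat morphism at geometric points
-/

set_option autoImplicit false
set_option linter.style.haveILetI false

universe u

open CategoryTheory CategoryTheory.Limits AlgebraicGeometry IsLocalRing

namespace GrothLib.Trace19

open GrothLib.Weight

theorem fibreLength_comp {A B C : Type u} [CommRing A] [CommRing B] [CommRing C] [IsLocalRing A] [IsLocalRing B]
    [IsLocalRing C] (φ : A →+* B) (χ : B →+* C) [IsLocalHom χ] (hf : χ.Flat) :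
    fibreLength (χ.comp φ) = fibreLength φ * fibreLength χ := by
  letI := χ.toAlgebra
  haveI : IsLocalHom (algebraMap B C) := ‹IsLocalHom χ›
  haveI : Module.Flat B C := RingHom.flat_algebraMap_iff.mp hf
  rw [fibreLength, fibreLength, fibreLength, ← ENat.toNat_mul, ← Ideal.map_map]
  congr 1
  exact (Algebra.TensorProduct.quotIdealMapEquivTensorQuot C
    ((maximalIdeal A).map φ)).toLinearEquiv.length_eq.trans
      (IsLocalRing.length_baseChange B C (B ⧸ (maximalIdeal A).map φ))

/-- Multiplicities are multiplicative. -/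
theorem mult_comp {X Y Z : Scheme.{u}} (f : X ⟶ Y) (g : Y ⟶ Z) [Flat f] [LocallyQuasiFinite g]
    [LocallyOfFiniteType g] (x : X) : mult (f ≫ g) x = mult f x * mult g (f x) := by
  haveI : IsLocalHom (f.stalkMap x).hom := inferInstance
  have h1 : fibreLength ((f ≫ g).stalkMap x).hom =
      fibreLength (g.stalkMap (f x)).hom * fibreLength (f.stalkMap x).hom := by
    rw [Scheme.Hom.stalkMap_comp]
    exact fibreLength_comp _ _ (Flat.stalkMap f x)
  unfold mult
  rw [finInsepDegree_comp, h1]
  push_cast
  ring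

variable {X S : Scheme.{u}} (f : X ⟶ S) {Ω : Type u} [Field Ω] [IsAlgClosed Ω]

/-- The multiplicities of the points over a geometric point sum to the rank. -/
theorem sum_mult [IsFinite f] [Flat f] (η : Spec (CommRingCat.of Ω) ⟶ S) :
    ∑ᶠ q : GeomPts f η, mult f (pt q.1) = (f.finrank (pt η) : ℤ) :=
  (fibreIntegral_eq f η (mult f)).symm.trans (fibreIntegral_mult f (pt η))

/-- Multiplicities at geometric points are unchanged by base change. -/
theorem mult_baseChange [IsFinite f] [Flat f] {X' S' : Scheme.{u}} {g' : X' ⟶ X} {f' : X' ⟶ S'} {g : S' ⟶ S}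
    (hc : IsPullback g' f' f g) (q' : Spec (CommRingCat.of Ω) ⟶ X') :
    mult f' (pt q') = mult f (pt (q' ≫ g')) := by
  haveI : IsFinite f' := MorphismProperty.of_isPullback hc ‹IsFinite f›
  haveI : Flat f' := MorphismProperty.of_isPullback hc ‹Flat f›
  obtain ⟨V, h, he, p₁, hp₁, n, P, j, hj, hfin, hpts, hcov⟩ := exists_split f (q' ≫ f' ≫ g)
  let r : Spec (CommRingCat.of Ω) ⟶ pullback f h :=
    pullback.lift (q' ≫ g') p₁ (by rw [hp₁, Category.assoc, hc.w])
  obtain ⟨i, hi, -⟩ := hcov (pt r)
  haveI := hj i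
  let q := IsOpenImmersion.lift (j i) r (range_subset_of_pt_mem r hi)
  let π : P i ⟶ V := j i ≫ pullback.snd f h
  let a : P i ⟶ X := j i ≫ pullback.fst f h
  haveI : Etale (pullback.fst f h) := inferInstance
  haveI : Etale a := inferInstanceAs (Etale (j i ≫ pullback.fst f h))
  haveI : IsFinite π := hfin i
  haveI : Flat π := inferInstanceAs (Flat (j i ≫ pullback.snd f h))
  have hsub : Subsingleton (GeomPts π p₁) := (hpts i).1
  have hqa : q ≫ a = q' ≫ g' := by
    simp only [q, a, IsOpenImmersion.lift_fac_assoc, r, pullback.lift_fst]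
  have hqπ : q ≫ π = p₁ := by
    simp only [q, π, IsOpenImmersion.lift_fac_assoc, r, pullback.lift_snd]
  have hw : a ≫ f = π ≫ h := by simp only [a, π, Category.assoc, pullback.condition]
  have e1 : (mult f (pt (q' ≫ g'))) = (π.finrank (pt p₁) : ℤ) := by
    rw [← fibreIntegral_mult π (pt p₁), fibreIntegral_of_unique_geomPts π p₁ ⟨q, hqπ⟩, ← mult_comp_left π h,
      ← hw, mult_comp_right a f, ← hqa]
    rfl
  let V' := pullback h g
  let p₁' : Spec (CommRingCat.of Ω) ⟶ V' := pullback.lift p₁ (q' ≫ f') (by rw [hp₁, Category.assoc])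
  let P' := pullback π (pullback.fst h g)
  let π' : P' ⟶ V' := pullback.snd _ _
  haveI : IsFinite π' := inferInstanceAs (IsFinite (pullback.snd π (pullback.fst h g)))
  haveI : Flat π' := inferInstanceAs (Flat (pullback.snd π (pullback.fst h g)))
  let a' : P' ⟶ X' := hc.lift (pullback.fst π (pullback.fst h g) ≫ a) (π' ≫ pullback.snd h g) (by
    rw [Category.assoc, hw, pullback.condition_assoc, pullback.condition, Category.assoc])
  have hA : IsPullback (pullback.fst π (pullback.fst h g)) (π' ≫ pullback.snd h g) (π ≫ h) g :=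
    (IsPullback.of_hasPullback π (pullback.fst h g)).paste_vert (IsPullback.of_hasPullback h g)
  have hA' : IsPullback (pullback.fst π (pullback.fst h g)) a' a g' := by
    refine IsPullback.of_bot ?_ (hc.lift_fst _ _ _).symm hc
    rw [hc.lift_snd, hw]
    exact hA
  haveI : Etale a' := MorphismProperty.of_isPullback hA' ‹Etale a›
  have hw' : a' ≫ f' = π' ≫ pullback.snd h g := hc.lift_snd _ _ _
  let qb : Spec (CommRingCat.of Ω) ⟶ P' := pullback.lift q p₁' (by rw [hqπ, pullback.lift_fst])
  have hqb : qb ≫ π' = p₁' := pullback.lift_snd _ _ _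
  have hqba : qb ≫ a' = q' := by
    apply hc.hom_ext
    · rw [Category.assoc, hc.lift_fst, pullback.lift_fst_assoc, hqa]
    · rw [Category.assoc, hw', reassoc_of% hqb, pullback.lift_snd]
  haveI : Subsingleton (GeomPts π' p₁') :=
    (geomPtsEquiv (IsPullback.of_hasPullback π (pullback.fst h g)) p₁' p₁ (pullback.lift_fst _ _ _)).subsingleton
  have e2 : mult f' (pt q') = (π'.finrank (pt p₁') : ℤ) := by
    rw [← fibreIntegral_mult π' (pt p₁'), fibreIntegral_of_unique_geomPts π' p₁' ⟨qb, hqb⟩,
      ← mult_comp_left π' (pullback.snd h g), ← hw', mult_comp_right a' f', ← hqba]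
    rfl
  rw [e2, e1, Scheme.Hom.finrank_pullback_snd, ← pt_comp, pullback.lift_fst]

end GrothLib.Trace19
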