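import Groth.Agent.Lib.Trace19.Exists
import Groth.Agent.Lib.Trace19.Comp
import Groth.Agent.Lib.Trace19.Etale

/-!
# Uniqueness of the trace
-/

set_option autoImplicit false
set_option backward.isDefEq.respectTransparency false
set_option backward.isDefEq.respectTransparency.types false
set_option linter.style.haveILetI false
set_option linter.unusedSectionVars false

universe u

open CategoryTheory CategoryTheory.Limits AlgebraicGeometry Opposite
open GrothLib.EtSite GrothLib.Weight

noncomputable section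

namespace GrothLib.Trace19

variable {Ω : Type u} [Field Ω] [IsAlgClosed Ω]

/-- Over an algebraically closed field morphisms are determined by the stalk at the point. -/
theorem hom_ext_stalk_id {F G : EtCoh.Ab (Spec (CommRingCat.of Ω))} {a b : F ⟶ G}
    (h : ∀ x : (EtCoh.stalk (𝟙 (Spec (CommRingCat.of Ω)))).obj F,
      (EtCoh.stalk (𝟙 _)).map a x = (EtCoh.stalk (𝟙 _)).map b x) : a = b := by
  refine ObjectProperty.hom_ext _ (NatTrans.ext ?_)
  ext V s
  refine sub_eq_zero.1 ?_
  let R : Sieve V.unop :=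
    { arrows := fun W g => G.obj.map g.op (a.hom.app V s - b.hom.app V s) = 0
      downward_closed := by
        intro W W' g hg k
        rw [op_comp, Functor.map_comp, ConcreteCategory.comp_apply, hg, map_zero] }
  have hR : R ∈ (Spec (CommRingCat.of Ω)).smallEtaleTopology V.unop := by
    rw [mem_topology_iff]
    intro u
    obtain ⟨t, ht⟩ := exists_fib (𝟙 (Spec (CommRingCat.of Ω))) u (Subsingleton.elim (α := Spec (CommRingCat.of Ω)) _ _)
    have e : germ (𝟙 (Spec (CommRingCat.of Ω))) G t (a.hom.app V s - b.hom.app V s) = 0 := by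
      rw [map_sub, sub_eq_zero]
      exact (stalk_map_germ _ a t s).symm.trans ((h _).trans (stalk_map_germ _ b t s))
    obtain ⟨W, g, v, hv, hg⟩ := eq_zero_nhd _ G t _ e
    exact ⟨W, g, v, hg, hv.trans ht⟩
  refine ((isSheaf_iff_isSheaf_of_type _ _).1
    ((sheafCompose _ (forget AddCommGrpCat.{u + 1})).obj G).property R hR).isSeparatedFor.ext
      fun W g (hg : G.obj.map g.op _ = 0) => ?_
  change G.obj.map g.op (a.hom.app V s - b.hom.app V s) = G.obj.map g.op 0
  rw [hg, map_zero]

/-- A morphism is determined by its inverse images to geometric points. -/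
theorem hom_ext_pull {S : Scheme.{u}} {F G : EtCoh.Ab S} {a b : F ⟶ G}
    (h : ∀ (Ω : Type u) [Field Ω] [IsAlgClosed Ω] (η : Spec (CommRingCat.of Ω) ⟶ S),
      (EtCoh.pull η).map a = (EtCoh.pull η).map b) : a = b := by
  refine hom_ext_stalksAC fun Ω _ _ η x => ?_
  obtain ⟨W, w, y, rfl⟩ := exists_germ η F x
  have e := congrArg (fun k : (EtCoh.pull η).obj F ⟶ (EtCoh.pull η).obj G => down η (𝟙 _) (Category.id_comp η) G
    ((EtCoh.stalk (𝟙 _)).map k (germ (𝟙 _) ((EtCoh.pull η).obj F) (liftPt η w (𝟙 _) (Category.id_comp η))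
      (((EtCoh.pullPushAdj η).unit.app F).hom.app (op W) y)))) (h Ω η)
  simp only at e
  rw [down_naturality, down_naturality, down_unit] at e
  exact e

/-- The axioms of the trace. -/
structure Compat (T : ∀ ⦃X S : Scheme.{u}⦄ (f : X ⟶ S) [IsFinite f] [Flat f] [LocallyOfFinitePresentation f],
    EtCoh.pull f ⋙ EtCoh.push f ⟶ 𝟭 (EtCoh.Ab S)) : Prop where
  bc : ∀ ⦃X S X' S' : Scheme.{u}⦄ (f : X ⟶ S) (g : S' ⟶ S) (f' : X' ⟶ S') (g' : X' ⟶ X)
          (hc : IsPullback g' f' f g)
          [IsFinite f] [Flat f] [LocallyOfFinitePresentation f]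
          [IsFinite f'] [Flat f'] [LocallyOfFinitePresentation f'] (F : EtCoh.Ab S),
        EtCoh.baseChange0 f g f' g' hc.w ((EtCoh.pull f).obj F) ≫
          (EtCoh.push f').map ((EtCore.pullComp g' f).inv.app F ≫ (EtCore.pullCongr hc.w).hom.app F ≫
            (EtCore.pullComp f' g).hom.app F) ≫ (T f').app ((EtCoh.pull g).obj F) =
          (EtCoh.pull g).map ((T f).app F)
  comp : ∀ ⦃X Y S : Scheme.{u}⦄ (h : X ⟶ Y) (g : Y ⟶ S)
          [IsFinite h] [Flat h] [LocallyOfFinitePresentation h]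
          [IsFinite g] [Flat g] [LocallyOfFinitePresentation g]
          [IsFinite (h ≫ g)] [Flat (h ≫ g)] [LocallyOfFinitePresentation (h ≫ g)] (F : EtCoh.Ab S),
        (T (h ≫ g)).app F =
          (EtCoh.push (h ≫ g)).map ((EtCore.pullComp h g).hom.app F) ≫
            (EtCoh.pushComp g h).inv.app ((EtCoh.pull h).obj ((EtCoh.pull g).obj F)) ≫
            (EtCoh.push g).map ((T h).app ((EtCoh.pull g).obj F)) ≫ (T g).app F
  unit : ∀ ⦃X S : Scheme.{u}⦄ (f : X ⟶ S) [IsFinite f] [Flat f] [LocallyOfFinitePresentation f] (n : ℕ)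
          (_ : ∀ s : S, f.finrank s = n) (F : EtCoh.Ab S),
        (EtCoh.pullPushAdj f).unit.app F ≫ (T f).app F = n • 𝟙 F

theorem trace_app {X S : Scheme.{u}} (f : X ⟶ S) [IsFinite f] [Flat f] [LocallyOfFinitePresentation f]
    (F : EtCoh.Ab S) : (trace f).app F = trApp f F :=
  rfl

theorem isTr_trace {X S : Scheme.{u}} (f : X ⟶ S) [IsFinite f] [Flat f] [LocallyOfFinitePresentation f]
    (F : EtCoh.Ab S) : IsTr f F ((trace f).app F) := by
  rw [trace_app]
  exact isTr_trApp f F

theorem trace_baseChange {X S X' S' : Scheme.{u}} (f : X ⟶ S) (g : S' ⟶ S) (f' : X' ⟶ S') (g' : X' ⟶ X)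
    (hc : IsPullback g' f' f g) [IsFinite f] [Flat f] [LocallyOfFinitePresentation f]
    [IsFinite f'] [Flat f'] [LocallyOfFinitePresentation f'] (F : EtCoh.Ab S) :
    EtCoh.baseChange0 f g f' g' hc.w ((EtCoh.pull f).obj F) ≫
      (EtCoh.push f').map ((EtCore.pullComp g' f).inv.app F ≫ (EtCore.pullCongr hc.w).hom.app F ≫
        (EtCore.pullComp f' g).hom.app F) ≫ (trace f').app ((EtCoh.pull g).obj F) =
      (EtCoh.pull g).map ((trace f).app F) :=
  IsTr.baseChange hc (isTr_trace f F) (isTr_trace f' _)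

theorem trace_comp {X Y S : Scheme.{u}} (h : X ⟶ Y) (g : Y ⟶ S)
    [IsFinite h] [Flat h] [LocallyOfFinitePresentation h] [IsFinite g] [Flat g] [LocallyOfFinitePresentation g]
    [IsFinite (h ≫ g)] [Flat (h ≫ g)] [LocallyOfFinitePresentation (h ≫ g)] (F : EtCoh.Ab S) :
    (trace (h ≫ g)).app F =
      (EtCoh.push (h ≫ g)).map ((EtCore.pullComp h g).hom.app F) ≫
        (EtCoh.pushComp g h).inv.app ((EtCoh.pull h).obj ((EtCoh.pull g).obj F)) ≫
        (EtCoh.push g).map ((trace h).app ((EtCoh.pull g).obj F)) ≫ (trace g).app F :=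
  IsTr.comp (isTr_trace (h ≫ g) F) (isTr_trace h _) (isTr_trace g F)

variable {T : ∀ ⦃X S : Scheme.{u}⦄ (f : X ⟶ S) [IsFinite f] [Flat f] [LocallyOfFinitePresentation f],
    EtCoh.pull f ⋙ EtCoh.push f ⟶ 𝟭 (EtCoh.Ab S)}

/-- The case of a single geometric point. -/
theorem eq_of_subsingleton (hT : Compat T) {X : Scheme.{u}} (f : X ⟶ Spec (CommRingCat.of Ω)) [IsFinite f] [Flat f]
    [LocallyOfFinitePresentation f] [Subsingleton (GeomPts f (𝟙 _))] (F : EtCoh.Ab (Spec (CommRingCat.of Ω))) :
    (T f).app F = (trace f).app F := by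
  refine hom_ext_stalk_id fun x => ?_
  have hn : ∀ s : Spec (CommRingCat.of Ω), f.finrank s = f.finrank default := fun s => by
    rw [Subsingleton.elim s default]
  have hu : ∀ z : (EtCoh.stalk (𝟙 _)).obj ((EtCoh.push f).obj ((EtCoh.pull f).obj F)),
      ∃ y, (EtCoh.stalk (𝟙 _)).map ((EtCoh.pullPushAdj f).unit.app F) y = z := fun z => by
    rcases isEmpty_or_nonempty (GeomPts f (𝟙 (Spec (CommRingCat.of Ω)))) with he | ⟨⟨ξ⟩⟩
    · exact ⟨0, ev_jointly_injective f _ _ _ fun ξ hξ => (he.false ⟨ξ, hξ⟩).elim⟩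
    · refine ⟨comp f ξ.1 ξ.2 F z, ev_jointly_injective f _ _ _ fun ξ' hξ' => ?_⟩
      obtain rfl : ξ' = ξ.1 := congrArg Subtype.val (Subsingleton.elim (⟨ξ', hξ'⟩ : GeomPts f _) ξ)
      refine injective_down f ξ.1 hξ' F ?_
      exact (comp_unit f ξ.1 hξ' F _)
  obtain ⟨y, rfl⟩ := hu x
  have e1 := hT.unit f _ hn F
  have e2 := (isTr_trace f F).unit_comp _ hn
  have := congrArg (fun k : F ⟶ F => (EtCoh.stalk (𝟙 (Spec (CommRingCat.of Ω)))).map k y) (e1.trans e2.symm)
  simp only [Functor.map_comp] at this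
  exact this

/-- The case of a monomorphism. -/
theorem eq_of_mono (hT : Compat T) {X S : Scheme.{u}} (h : X ⟶ S) [IsFinite h] [Flat h]
    [LocallyOfFinitePresentation h] [Mono h] (F : EtCoh.Ab S) : (T h).app F = (trace h).app F := by
  refine hom_ext_pull fun Ω _ _ η => ?_
  let h' : pullback h η ⟶ Spec (CommRingCat.of Ω) := pullback.snd h η
  haveI : Subsingleton (GeomPts h' (𝟙 (Spec (CommRingCat.of Ω)))) := ⟨fun a b => Subtype.ext (by
    rw [← cancel_mono h']; exact a.2.trans b.2.symm)⟩
  have hc : IsPullback (pullback.fst h η) h' h η := IsPullback.of_hasPullback h η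
  refine (hT.bc h η h' _ hc F).symm.trans ?_
  rw [eq_of_subsingleton hT h']
  exact trace_baseChange h η h' _ hc F

theorem subsingleton_geomPts {X : Scheme.{u}} (f : X ⟶ Spec (CommRingCat.of Ω)) [IsFinite f] [Subsingleton X] :
    Subsingleton (GeomPts f (𝟙 (Spec (CommRingCat.of Ω)))) := by
  refine ⟨fun ⟨a, ha⟩ ⟨b, hb⟩ => Subtype.ext ?_⟩
  obtain ⟨⟨x, ψ⟩, rfl⟩ := (X.SpecToEquivOfField Ω).symm.surjective a
  obtain ⟨⟨y, χ⟩, rfl⟩ := (X.SpecToEquivOfField Ω).symm.surjective b
  obtain rfl : x = y := Subsingleton.elim x y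
  simp only [Scheme.SpecToEquivOfField_symm_apply] at ha hb ⊢
  obtain ⟨φ, hφ⟩ := Spec.map_surjective (X.fromSpecResidueField x ≫ f)
  have h1 : φ ≫ ψ = 𝟙 _ := Spec.map_injective (by rw [Spec.map_comp, hφ, Spec.map_id, ← Category.assoc]; exact ha)
  have h2 : φ ≫ χ = 𝟙 _ := Spec.map_injective (by rw [Spec.map_comp, hφ, Spec.map_id, ← Category.assoc]; exact hb)
  haveI : IsFinite (X.fromSpecResidueField x) := by
    haveI : IsClosedImmersion (X.fromSpecResidueField x) := .of_isPreimmersion _ (by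
      rw [Scheme.range_fromSpecResidueField, Subsingleton.eq_univ_of_nonempty (Set.singleton_nonempty x)]
      exact isClosed_univ)
    infer_instance
  have hf : φ.hom.Finite := by
    rw [← IsFinite.SpecMap_iff, hφ]
    infer_instance
  letI := φ.hom.toAlgebra
  haveI : Module.Finite Ω (X.residueField x) := hf
  have hs : Function.Surjective φ.hom := (IsAlgClosed.algebraMap_bijective_of_isIntegral (k := Ω) (K := X.residueField x)).2
  have e : ψ = χ := CommRingCat.hom_ext (RingHom.ext fun z => by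
    obtain ⟨c, rfl⟩ := hs z
    exact (congr($h1 c)).trans (congr($h2 c)).symm)
  rw [e]

theorem finrank_openImmersion {U X : Scheme.{u}} (j : U ⟶ X) [IsOpenImmersion j] [IsFinite j] (x : X) :
    (j.finrank x : ℤ) = (Set.range j).indicator (fun _ => 1) x := by
  classical
  obtain ⟨Ω', _, _, p, rfl⟩ := exists_pt x
  rw [← sum_mult j p]
  haveI : Subsingleton (GeomPts j p) := ⟨fun a b => Subtype.ext ((cancel_mono j).1 (a.2.trans b.2.symm))⟩
  by_cases hx : pt p ∈ Set.range j
  · rw [Set.indicator_of_mem hx]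
    let q : GeomPts j p := ⟨IsOpenImmersion.lift j p (range_subset_of_pt_mem p hx), IsOpenImmersion.lift_fac _ _ _⟩
    rw [finsum_eq_single (fun q : GeomPts j p => mult j (pt q.1)) q (fun y hy => absurd (Subsingleton.elim y q) hy)]
    exact mult_eq_one j _
  · rw [Set.indicator_of_notMem hx]
    haveI : IsEmpty (GeomPts j p) := ⟨fun q => hx ⟨pt q.1, pt_geomPts q⟩⟩
    exact finsum_of_isEmpty _

/-- The case of an algebraically closed field. -/
theorem eq_over_field (hT : Compat T) {X : Scheme.{u}} (f : X ⟶ Spec (CommRingCat.of Ω)) [IsFinite f] [Flat f]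
    [LocallyOfFinitePresentation f] (F : EtCoh.Ab (Spec (CommRingCat.of Ω))) :
    (T f).app F = (trace f).app F := by
  classical
  have huniv : f ⁻¹' {(default : Spec (CommRingCat.of Ω))} = Set.univ :=
    Set.eq_univ_of_forall fun x => Subsingleton.elim (f x) default
  haveI : Finite X := Set.finite_univ_iff.1 (huniv ▸ f.finite_preimage_singleton default)
  haveI : DiscreteTopology X := by
    have h := f.isDiscrete_preimage_singleton (default : Spec (CommRingCat.of Ω))
    rw [huniv] at h
    exact isDiscrete_univ_iff.1 h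
  letI := Fintype.ofFinite X
  let O : X → X.Opens := fun x => ⟨{x}, isOpen_discrete _⟩
  let h : ∀ x, (O x : Scheme.{u}) ⟶ X := fun x => (O x).ι
  haveI : ∀ x, IsClosedImmersion (h x) := fun x => .of_isPreimmersion (O x).ι (by
    rw [Scheme.Opens.range_ι]
    exact isClosed_discrete _)
  haveI : ∀ x, IsFinite (h x) := fun x => inferInstance
  let G := (EtCoh.pull f).obj F
  have hsum : ∑ x : X, (EtCoh.pullPushAdj (h x)).unit.app G ≫ (trace (h x)).app G = 𝟙 G := by
    refine hom_ext_stalksAC fun Ω' _ _ ξ z => ?_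
    obtain ⟨W, w, y, rfl⟩ := exists_germ ξ G z
    let E : (G ⟶ G) →+ (EtCoh.stalk ξ).obj G :=
      AddMonoidHom.mk' (fun k => germ ξ G w (k.hom.app (op W) y)) fun a b => map_add (germ ξ G w).hom _ _
    refine (stalk_map_germ ξ _ w y).trans (Eq.trans ?_ (stalk_map_germ ξ (𝟙 G) w y).symm)
    show E (∑ x : X, (EtCoh.pullPushAdj (h x)).unit.app G ≫ (trace (h x)).app G) = E (𝟙 G)
    rw [map_sum]
    have hx : ∀ x, E ((EtCoh.pullPushAdj (h x)).unit.app G ≫ (trace (h x)).app G) =
        ((h x).finrank (pt ξ) : ℤ) • E (𝟙 G) := fun x => by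
      refine (stalk_map_germ ξ _ w y).symm.trans ?_
      refine ((stalk_map_comp_apply _ _ ξ _).trans ((isTr_trace (h x) G Ω' ξ _).trans (trVal_unit (h x) ξ G _))).trans ?_
      rw [natCast_zsmul]
      rfl
    rw [Finset.sum_congr rfl fun x _ => hx x, ← Finset.sum_smul]
    have hone : ∑ x : X, ((h x).finrank (pt ξ) : ℤ) = 1 := by
      simp only [finrank_openImmersion]
      rw [Finset.sum_eq_single (pt ξ)]
      · rw [Set.indicator_of_mem]
        show pt ξ ∈ Set.range (O (pt ξ)).ι
        rw [Scheme.Opens.range_ι]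
        rfl
      · intro x _ hne
        rw [Set.indicator_of_notMem]
        show pt ξ ∉ Set.range (O x).ι
        rw [Scheme.Opens.range_ι]
        exact fun hm => hne (Set.mem_singleton_iff.1 hm).symm
      · exact fun hm => absurd (Finset.mem_univ _) hm
    rw [hone, one_smul]
  have key : ∀ x, (EtCoh.push f).map ((trace (h x)).app G) ≫ (T f).app F =
      (EtCoh.push f).map ((trace (h x)).app G) ≫ (trace f).app F := fun x => by
    haveI : Subsingleton (O x : Scheme.{u}) :=
      ⟨fun a b => Subtype.ext ((Set.mem_singleton_iff.1 a.2).trans (Set.mem_singleton_iff.1 b.2).symm)⟩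
    haveI := subsingleton_geomPts (h x ≫ f)
    have e1 := hT.comp (h x) f F
    have e2 := trace_comp (h x) f F
    rw [eq_of_subsingleton hT (h x ≫ f), eq_of_mono hT (h x), e2] at e1
    exact ((cancel_epi _).1 ((cancel_epi _).1 e1)).symm
  rw [← Category.id_comp ((T f).app F), ← Category.id_comp ((trace f).app F),
    show 𝟙 ((EtCoh.pull f ⋙ EtCoh.push f).obj F) = (EtCoh.push f).map (𝟙 G) from ((EtCoh.push f).map_id G).symm,
    ← hsum, Functor.map_sum, Preadditive.sum_comp, Preadditive.sum_comp]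
  refine Finset.sum_congr rfl fun x _ => ?_
  rw [Functor.map_comp, Category.assoc, Category.assoc, key]

/-- The trace is determined by its properties. -/
theorem eq_trace (hT : Compat T) {X S : Scheme.{u}} (f : X ⟶ S) [IsFinite f] [Flat f]
    [LocallyOfFinitePresentation f] : T f = trace f := by
  refine NatTrans.ext (funext fun F => hom_ext_pull fun Ω _ _ η => ?_)
  have hc : IsPullback (pullback.fst f η) (pullback.snd f η) f η := IsPullback.of_hasPullback f η
  refine (hT.bc f η _ _ hc F).symm.trans ?_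
  rw [eq_over_field hT (pullback.snd f η)]
  exact trace_baseChange f η _ _ hc F

end GrothLib.Trace19
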